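import Groth.Agent.CalgA.LimFP2
import Groth.Agent.Ega43.LimitDescendAffineTarget
import Groth.Agent.ConsPropPair.K286.Desc
import Groth.Agent.ModPair.K973.EtaleDesc

/-!
# Properties of (morphisms of) finitely presented models spread out

* `Mdl.exists_prop`: if `P` descends along limits and `P f'`, then `P (M.bc a).f` at a later stage;
* `Hom.exists_prop`: the same for a morphism of models;
* `Mdl.exists_mem_of_constructible`: a constructible subset of a model whose preimage in the limit is everything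
  becomes everything at a later stage.
-/

set_option autoImplicit false
set_option backward.isDefEq.respectTransparency false
set_option backward.defeqAttrib.useBackward true
set_option linter.unusedSectionVars false
universe u
open CategoryTheory AlgebraicGeometry Limits Topology

namespace K115.MdlProp

open Groth.Agent Groth.Agent.CalgA.LimFP Groth.Agent.Ega43.LimitDescend

attribute [local instance] Mdl.lfp Mdl.qc Mdl.qs

variable {I : Type u} [SmallCategory I] [IsCofiltered I] {D : I ⥤ Scheme.{u}} {c : Cone D}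
  [∀ (i j : I) (f : i ⟶ j), IsAffineHom (D.map f)]
  [∀ i, CompactSpace (D.obj i)] [∀ i, QuasiSeparatedSpace (D.obj i)]
  {A' B' : Scheme.{u}} {f' : A' ⟶ c.pt} {g' : B' ⟶ c.pt}

lemma compactSpace_A {i : I} (M : Mdl f' i) : CompactSpace M.A :=
  QuasiCompact.compactSpace_of_compactSpace M.f

lemma quasiSeparatedSpace_A {i : I} (M : Mdl f' i) : QuasiSeparatedSpace M.A :=
  quasiSeparatedSpace_of_quasiSeparated M.f

lemma lfp_hom {i : I} {φ' : A' ⟶ B'} {M : Mdl f' i} {N : Mdl g' i} (u : Mdl.Hom φ' M N) :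
    LocallyOfFinitePresentation u.φ := by
  have : LocallyOfFinitePresentation (u.φ ≫ N.f) := by rw [u.w]; exact M.lfp
  exact Ega43.FPOfComp.locallyOfFinitePresentation_of_comp u.φ N.f

lemma qc_hom {i : I} {φ' : A' ⟶ B'} {M : Mdl f' i} {N : Mdl g' i} (u : Mdl.Hom φ' M N) :
    QuasiCompact u.φ := by
  have : QuasiCompact (u.φ ≫ N.f) := by rw [u.w]; exact M.qc
  exact QuasiCompact.of_comp u.φ N.f

lemma qs_hom {i : I} {φ' : A' ⟶ B'} {M : Mdl f' i} {N : Mdl g' i} (u : Mdl.Hom φ' M N) :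
    QuasiSeparated u.φ := by
  have : QuasiSeparated (u.φ ≫ N.f) := by rw [u.w]; exact M.qs
  exact QuasiSeparated.of_comp u.φ N.f

/-- Properties of a model. -/
theorem Mdl.exists_prop {P : MorphismProperty Scheme.{u}} (hP : DescendsLim P) (hc : IsLimit c) {i : I}
    (M : Mdl f' i) (h : P f') : ∃ (j : I) (a : j ⟶ i), P (M.bc a).f := by
  obtain ⟨j, hj⟩ := hP (Over.forget i ⋙ D) (overCone c i) (isLimitOverCone c hc i)
    (fun j => D.map j.hom) (fun φ => overT_w D i φ) M.f (c.π.app i) (fun j => by simp) M.p f' M.h h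
  exact ⟨j.left, j.hom, hj⟩

/-- Properties of a morphism of models. -/
theorem Hom.exists_prop {P : MorphismProperty Scheme.{u}} [P.RespectsIso] (hP : DescendsLim P)
    (hc : IsLimit c) {i : I} {φ' : A' ⟶ B'} {M : Mdl f' i} {N : Mdl g' i} (u : Mdl.Hom φ' M N) (h : P φ') :
    ∃ (j : I) (a : j ⟶ i), P (u.bc a).φ := by
  have h1 : ∀ {j k : Over i} (a : j ⟶ k), IsAffineHom ((bcDiagram D N.f).map a) :=
    fun a => isAffineHom_bcDiagram_map a
  have h2 : ∀ j : Over i, CompactSpace ((bcDiagram D N.f).obj j) :=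
    fun j => compactSpace_bcDiagram_obj j
  have h3 : ∀ j : Over i, QuasiSeparatedSpace ((bcDiagram D N.f).obj j) :=
    fun j => quasiSeparatedSpace_bcDiagram_obj j
  have := lfp_hom u
  have := qc_hom u
  have := qs_hom u
  obtain ⟨j, hj⟩ := hP (bcDiagram D N.f) (bcCone N.h) (isLimitBcCone hc N.h)
    (fun j => pullback.fst N.f (D.map j.hom)) (fun φ => by simp) u.φ N.p (fun j => by simp) M.p φ'
    u.isPullback h
  refine ⟨j.left, j.hom, ?_⟩
  exact Ega43.LimitDescendIso.prop_of_isPullback_of_isPullback (IsPullback.of_hasPullback _ _)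
    (u.isPullback_bc j.hom) (Iso.refl _) (by simp) hj

/-- A constructible subset of a model with full preimage in the limit has full preimage at a later stage. -/
theorem exists_preimage_eq_univ (hc : IsLimit c) {i : I} (M : Mdl f' i) {Z : Set M.A} (hZ : IsConstructible Z)
    (h : ⇑M.p ⁻¹' Z = Set.univ) :
    ∃ (j : I) (a : j ⟶ i), ⇑(pullback.fst M.f (D.map a)) ⁻¹' Z = Set.univ := by
  have h1 : ∀ (j k : Over i) (a : j ⟶ k), IsAffineHom ((bcDiagram D M.f).map a) :=
    fun _ _ a => isAffineHom_bcDiagram_map a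
  have h2 : ∀ j : Over i, CompactSpace ((bcDiagram D M.f).obj j) :=
    fun j => compactSpace_bcDiagram_obj j
  have h3 : ∀ j : Over i, QuasiSeparatedSpace ((bcDiagram D M.f).obj j) :=
    fun j => quasiSeparatedSpace_bcDiagram_obj j
  have := compactSpace_A M
  have := quasiSeparatedSpace_A M
  let r : (bcDiagram D M.f).obj (Over.mk (𝟙 i)) ⟶ M.A := pullback.fst M.f (D.map (𝟙 i))
  have hr : (bcCone M.h).π.app (Over.mk (𝟙 i)) ≫ r = M.p := by simp [r]
  obtain ⟨j, a, ha⟩ := Ega43.LimSurj.exists_preimage_eq_empty_of_isConstructible (bcDiagram D M.f)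
    (bcCone M.h) (isLimitBcCone hc M.h) (Over.mk (𝟙 i)) (⇑r ⁻¹' Zᶜ) (r.isConstructible_preimage hZ.compl) (by
      rw [Set.eq_empty_iff_forall_notMem]
      intro x hx
      have hx' : ((bcCone M.h).π.app (Over.mk (𝟙 i)) ≫ r) x ∉ Z := hx
      rw [hr] at hx'
      exact hx' (h.symm ▸ Set.mem_univ x : x ∈ ⇑M.p ⁻¹' Z))
  refine ⟨j.left, j.hom, ?_⟩
  have hr2 : (bcDiagram D M.f).map a ≫ r = pullback.fst M.f (D.map j.hom) := by simp [r]
  rw [Set.eq_univ_iff_forall]
  intro x
  by_contra hx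
  have hx' : ((bcDiagram D M.f).map a ≫ r) x ∉ Z := by rwa [hr2]
  exact (Set.eq_empty_iff_forall_notMem.1 ha x) hx'

/-- The comparison square between two stages of a model. -/
theorem exists_isPullback_bc {i : I} (M : Mdl f' i) {j k : I} (a : j ⟶ i) (b : k ⟶ j) (e : k ⟶ i)
    (he : b ≫ a = e) :
    ∃ v : (M.bc e).A ⟶ (M.bc a).A, IsPullback v (M.bc e).f (M.bc a).f (D.map b) ∧ (M.bc e).p ≫ v = (M.bc a).p ∧
      v ≫ pullback.fst M.f (D.map a) = pullback.fst M.f (D.map e) := by
  subst he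
  let x : Over.mk (b ≫ a) ⟶ Over.mk a := Over.homMk b
  refine ⟨(bcDiagram D M.f).map x, isPullback_bcDiagram_map D M.f x, ?_, by simp [x]⟩
  apply pullback.hom_ext
  · simp [x]
  · simp [x]

/-- `M'` is a base change of the model `M`. -/
def IsBC {i j : I} (M : Mdl f' i) (a : j ⟶ i) (M' : Mdl f' j) : Prop :=
  ∃ r : M'.A ⟶ M.A, IsPullback r M'.f M.f (D.map a) ∧ M'.p ≫ r = M.p

lemma isBC_bc {i j : I} (M : Mdl f' i) (a : j ⟶ i) : IsBC M a (M.bc a) :=
  ⟨pullback.fst _ _, IsPullback.of_hasPullback _ _, by simp⟩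

lemma IsBC.comp {i j k : I} {M : Mdl f' i} {a : j ⟶ i} {M' : Mdl f' j} (h : IsBC M a M') {b : k ⟶ j}
    {M'' : Mdl f' k} (h' : IsBC M' b M'') : IsBC M (b ≫ a) M'' := by
  obtain ⟨r, hr, hp⟩ := h
  obtain ⟨r', hr', hp'⟩ := h'
  refine ⟨r' ≫ r, ?_, by rw [← Category.assoc, hp', hp]⟩
  rw [D.map_comp]
  exact hr'.paste_horiz hr

/-- Two base changes along the same morphism agree. -/
lemma IsBC.exists_iso {i j : I} {M : Mdl f' i} {a : j ⟶ i} {M' M'' : Mdl f' j} (h : IsBC M a M')
    (h' : IsBC M a M'') : ∃ v : M''.A ⟶ M'.A, IsPullback v M''.f M'.f (𝟙 _) ∧ M''.p ≫ v = M'.p := by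
  obtain ⟨r, hr, hp⟩ := h
  obtain ⟨r', hr', hp'⟩ := h'
  refine ⟨hr.lift r' M''.f hr'.w, ?_, ?_⟩
  · refine IsPullback.of_right (h₁₂ := r) (h₂₂ := D.map a) (v₁₃ := M.f) ?_ (by simp) hr
    simpa using hr'
  · apply hr.hom_ext
    · simp [hp, hp']
    · simp [M'.h.w, M''.h.w]

end K115.MdlProp
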