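import Groth.Agent.FlatMor.K115.Radic
import Groth.Agent.FlatMor.K115.MdlProp
import Groth.Agent.EtpbcA.ConstrTop

/-!
# Universally open quasi-finite morphisms descend along limits

* `Datum.exists_descend`: a datum for the morphism in the limit comes from a datum for a stage of a model;
* `exists_universallyOpen`: if `f'` is universally open and locally quasi-finite, so is a stage of a model.
-/

set_option autoImplicit false
set_option backward.isDefEq.respectTransparency false
set_option backward.defeqAttrib.useBackward true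
set_option linter.unusedSectionVars false
universe u
open CategoryTheory AlgebraicGeometry Limits Topology

namespace K115.DatumDesc

open Groth.Agent Groth.Agent.CalgA.LimFP Groth.Agent.Ega43.LimitDescend K115.Radic K115.MdlProp K115.Open2

attribute [local instance] Mdl.lfp Mdl.qc Mdl.qs Datum.etale Datum.finite Datum.lfp Datum.surj

/-- The certified set is constructible. -/
lemma isConstructible_E {X Y : Scheme.{u}} {f : X ⟶ Y} (d : Datum f) [CompactSpace X] [QuasiSeparatedSpace X]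
    [CompactSpace d.V] [QuasiSeparatedSpace d.V] [LocallyOfFinitePresentation d.q] [QuasiCompact d.q] :
    IsConstructible d.E := by
  have : CompactSpace ↥(pullback d.π d.π) :=
    QuasiCompact.compactSpace_of_compactSpace (pullback.fst d.π d.π ≫ d.π)
  have : QuasiSeparatedSpace ↥(pullback d.π d.π) :=
    quasiSeparatedSpace_of_quasiSeparated (pullback.fst d.π d.π ≫ d.π)
  have h1 : IsConstructible (Set.range ⇑(pullback.diagonal d.π)) := by
    rw [← Set.image_univ]
    exact (pullback.diagonal d.π).isConstructible_image .univ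
  have h2 : IsConstructible (NU d.π) :=
    (pullback.fst d.π d.π ≫ d.π).isConstructible_image h1.compl
  exact d.q.isConstructible_image (d.π.isConstructible_preimage h2.compl)

variable {I : Type u} [SmallCategory I] [IsCofiltered I] {D : I ⥤ Scheme.{u}} {c : Cone D}
  [∀ (i j : I) (f : i ⟶ j), IsAffineHom (D.map f)]
  [∀ i, CompactSpace (D.obj i)] [∀ i, QuasiSeparatedSpace (D.obj i)]
  {A' : Scheme.{u}} {f' : A' ⟶ c.pt}

/-- Assembling a datum from models. -/
theorem Datum.exists_of_hom {i : I} {M : Mdl f' i} (d : Datum f') {MV : Mdl d.g i} {MU : Mdl (d.π ≫ d.g) i}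
    (u : Mdl.Hom d.π MU MV) (v : Mdl.Hom d.q MU M) (h1 : Etale MV.f) (h2 : IsFinite u.φ) (h3 : Surjective u.φ) :
    ∃ d' : Datum M.f, IsConstructible d'.E ∧ ⇑M.p ⁻¹' d'.E = d.E := by
  have hl := lfp_hom u
  have := lfp_hom v
  have := qc_hom v
  have := compactSpace_A M
  have := compactSpace_A MV
  have := quasiSeparatedSpace_A M
  have := quasiSeparatedSpace_A MV
  refine ⟨⟨MV.A, MU.A, MV.f, u.φ, v.φ, by rw [u.w, v.w], h1, h2, hl, h3⟩, ?_, ?_⟩
  · exact isConstructible_E (⟨MV.A, MU.A, MV.f, u.φ, v.φ, by rw [u.w, v.w], h1, h2, hl, h3⟩ : Datum M.f)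
  · show ⇑M.p ⁻¹' (⇑v.φ '' (⇑u.φ ⁻¹' (NU u.φ)ᶜ)) = ⇑d.q '' (⇑d.π ⁻¹' (NU d.π)ᶜ)
    rw [← image_preimage_of_isPullback v.isPullback, NU_of_isPullback u.isPullback]
    congr 1
    rw [← Set.preimage_compl, ← Set.preimage_comp, ← Set.preimage_comp]
    ext x
    simp only [Set.mem_preimage, Function.comp_apply, Set.mem_compl_iff]
    rw [← Scheme.Hom.comp_apply, ← Scheme.Hom.comp_apply, u.wp]

/-- A datum in the limit comes from a datum at a stage. -/
theorem Datum.exists_descend (hc : IsLimit c) {i : I} (M : Mdl f' i) (d : Datum f') [IsAffine d.V] :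
    ∃ (j : I) (a : j ⟶ i) (d' : Datum (M.bc a).f), IsConstructible d'.E ∧ ⇑(M.bc a).p ⁻¹' d'.E = d.E := by
  have hcpt : CompactSpace c.pt := Scheme.compactSpace_of_isLimit D c hc
  have hqs : QuasiSeparatedSpace c.pt := by
    have := isAffineHom_π_app _ _ hc (i := i)
    exact quasiSeparatedSpace_of_quasiSeparated (c.π.app i)
  have : QuasiCompact d.g := quasiCompact_of_compactSpace d.g
  have : QuasiSeparated d.g := inferInstance
  obtain ⟨j1, ⟨MV⟩⟩ := Mdl.exists_model hc d.g
  obtain ⟨j2, ⟨MU⟩⟩ := Mdl.exists_model hc (d.π ≫ d.g)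
  obtain ⟨j, a1, a2, a, -⟩ : ∃ (j : I) (_ : j ⟶ j1) (_ : j ⟶ j2) (_ : j ⟶ i), True := by
    obtain ⟨j3, b1, b2, -⟩ := IsCofilteredOrEmpty.cone_objs j1 j2
    obtain ⟨j, b3, b4, -⟩ := IsCofilteredOrEmpty.cone_objs j3 i
    exact ⟨j, b3 ≫ b1, b3 ≫ b2, b4, trivial⟩
  obtain ⟨k1, e1, ⟨u1⟩⟩ := (MU.bc a2).exists_hom hc (MV.bc a1) d.π rfl
  obtain ⟨k2, e2, ⟨v2⟩⟩ := ((MU.bc a2).bc e1).exists_hom hc ((M.bc a).bc e1) d.q d.w
  obtain ⟨k3, e3, h3⟩ := Hom.exists_prop K286.Desc.descendsLim_isFinite hc (u1.bc e2) d.finite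
  obtain ⟨k4, e4, h4⟩ := Hom.exists_prop K286.Desc.descendsLim_surjective hc ((u1.bc e2).bc e3) d.surj
  obtain ⟨k5, e5, h5⟩ := Mdl.exists_prop K973.EtaleDesc.descendsLim_etale hc
    ((((MV.bc a1).bc e1).bc e2).bc e3 |>.bc e4) d.etale
  obtain ⟨d', hd1, hd2⟩ := Datum.exists_of_hom (M := (((((M.bc a).bc e1).bc e2).bc e3).bc e4).bc e5) d
    ((((u1.bc e2).bc e3).bc e4).bc e5) ((((v2.bc e3).bc e4).bc e5)) h5
    (MorphismProperty.of_isPullback ((((u1.bc e2).bc e3).bc e4).isPullback_bc e5)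
      (MorphismProperty.of_isPullback (((u1.bc e2).bc e3).isPullback_bc e4) h3))
    (MorphismProperty.of_isPullback ((((u1.bc e2).bc e3).bc e4).isPullback_bc e5) h4)
  have hbc := (((((isBC_bc M a).comp (isBC_bc (M.bc a) e1)).comp (isBC_bc _ e2)).comp (isBC_bc _ e3)).comp
    (isBC_bc _ e4)).comp (isBC_bc _ e5)
  obtain ⟨v, hv, hvp⟩ := hbc.exists_iso (isBC_bc M _)
  obtain ⟨d'', hd''⟩ := d'.exists_bc hv
  refine ⟨_, _, d'', ?_, ?_⟩
  · rw [hd'']
    exact v.isConstructible_preimage hd1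
  · rw [hd'', ← hd2, ← hvp]
    rfl

/-- Universal openness of quasi-finite morphisms spreads out. -/
theorem exists_universallyOpen (hc : IsLimit c) {i : I} (M : Mdl f' i) [LocallyQuasiFinite f']
    [UniversallyOpen f'] : ∃ (j : I) (a : j ⟶ i), UniversallyOpen (M.bc a).f := by
  have hcpt : CompactSpace c.pt := Scheme.compactSpace_of_isLimit D c hc
  have hqs : QuasiSeparatedSpace c.pt := by
    have := isAffineHom_π_app _ _ hc (i := i)
    exact quasiSeparatedSpace_of_quasiSeparated (c.π.app i)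
  have hf1 : LocallyOfFinitePresentation f' := MorphismProperty.of_isPullback M.h M.lfp
  have hf2 : QuasiCompact f' := MorphismProperty.of_isPullback M.h M.qc
  have hf3 : QuasiSeparated f' := MorphismProperty.of_isPullback M.h M.qs
  have : CompactSpace A' := QuasiCompact.compactSpace_of_compactSpace f'
  have : QuasiSeparatedSpace A' := quasiSeparatedSpace_of_quasiSeparated f'
  have key : ∀ x : A', ∃ (j : I) (a : j ⟶ i) (d' : Datum (M.bc a).f), IsConstructible d'.E ∧
      x ∈ ⇑(M.bc a).p ⁻¹' d'.E := by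
    intro x
    obtain ⟨d, hV, hd⟩ := Datum.exists_mem f' x
    obtain ⟨j, a, d', h1, h2⟩ := Datum.exists_descend hc M d
    exact ⟨j, a, d', h1, h2 ▸ hd⟩
  choose j a d h1 h2 using key
  obtain ⟨t, ht⟩ := EtpbcA.ConstrTop.finite_subcover (fun x => ⇑(M.bc (a x)).p ⁻¹' (d x).E)
    (fun x => (M.bc (a x)).p.isConstructible_preimage (h1 x))
    (Set.eq_univ_iff_forall.2 fun x => Set.mem_iUnion.2 ⟨x, h2 x⟩)
  obtain ⟨k, e, g, hg⟩ := IsCofiltered.wideCospan (fun x : t => a x.1)
  choose v hv hvp _ using fun x : t => exists_isPullback_bc M (a x.1) (g x) e (hg x)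
  choose d₂ hd₂ using fun x : t => (d x.1).exists_bc (hv x)
  have hZ : IsConstructible (⋃ x : t, (d₂ x).E) := by
    refine IsConstructible.iUnion fun x => ?_
    rw [hd₂ x]
    exact (v x).isConstructible_preimage (h1 x.1)
  obtain ⟨l, b, hb⟩ := exists_preimage_eq_univ hc (M.bc e) hZ (by
    rw [Set.eq_univ_iff_forall]
    intro x
    have := ht.symm ▸ Set.mem_univ x
    simp only [Set.mem_iUnion] at this
    obtain ⟨y, hy, hxy⟩ := this
    refine Set.mem_iUnion.2 ⟨⟨y, hy⟩, ?_⟩
    rw [hd₂]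
    show v ⟨y, hy⟩ ((M.bc e).p x) ∈ (d y).E
    rw [← Scheme.Hom.comp_apply, hvp]
    exact hxy)
  have hU : UniversallyOpen ((M.bc e).bc b).f := by
    refine universallyOpen_of_cover _ fun x => ?_
    have hx := Set.eq_univ_iff_forall.1 hb x
    obtain ⟨y, hy⟩ := Set.mem_iUnion.1 hx
    obtain ⟨d₃, hd₃⟩ := (d₂ y).exists_bc (IsPullback.of_hasPullback (M.bc e).f (D.map b))
    exact ⟨d₃, hd₃ ▸ hy⟩
  obtain ⟨w, hw, -⟩ := ((isBC_bc M e).comp (isBC_bc (M.bc e) b)).exists_iso (isBC_bc M _)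
  exact ⟨l, b ≫ e, MorphismProperty.of_isPullback hw hU⟩

/-- Universally open locally quasi-finite morphisms descend along limits. -/
theorem descendsLim : DescendsLim (@LocallyQuasiFinite.{u} ⊓ @UniversallyOpen.{u}) := by
  intro J _ _ E c hc _ _ _ B X₀ t ht f₀ _ _ _ p hp X q f hX hf
  obtain ⟨hf1, hf2⟩ := hf
  obtain ⟨i, hi⟩ := K286.Desc.descendsLim_locallyQuasiFinite E c hc t ht f₀ p hp q f hX hf1
  have h1 : LocallyQuasiFinite f := hf1
  have h2 : UniversallyOpen f := hf2
  let M : Mdl f i := ⟨pullback f₀ (t i), pullback.snd _ _, (pbCone t ht f₀ c p hp q f hX).π.app i,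
    isPullback_pbCone t ht f₀ c p hp q f hX i, inferInstance, inferInstance, inferInstance⟩
  obtain ⟨j, a, hj⟩ := exists_universallyOpen hc M
  refine ⟨j, MorphismProperty.of_isPullback (isPullback_pbSnd t ht f₀ a) hi, ?_⟩
  have h3 : IsPullback (pullback.fst _ _) (M.bc a).f (pullback.snd f₀ (t i)) (E.map a) :=
    IsPullback.of_hasPullback M.f (E.map a)
  exact Ega43.LimitDescendIso.prop_of_isPullback_of_isPullback h3 (isPullback_pbSnd t ht f₀ a)
    (Iso.refl _) (by simp) hj

end K115.DatumDesc
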