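import Groth.Agent.Flat2F.GeomPts
import Groth.Agent.EtpbcA.ConstrTop
import Groth.Agent.Ega43.LimitDescendIso

/-!
# Fibre integrals of constructible functions along finite morphisms are constructible

* `IsCF F`: the level sets of `F : V → ℤ` are constructible;
* `IsCF.fibreIntegral`: if `π : U ⟶ V` is finite and locally of finite presentation, `V` qcqs and `w` constructible on
  `U`, then the fibre integral of `w` is constructible.
-/

set_option autoImplicit false
set_option backward.isDefEq.respectTransparency false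
universe u

namespace K115.FibreConstr

open AlgebraicGeometry CategoryTheory Limits Topology
open Groth.Agent Groth.Agent.Flat2F.FibreIntegral Groth.Agent.Flat2F.GeomPts

/-- Constructible functions. -/
def IsCF {V : Type*} [TopologicalSpace V] (F : V → ℤ) : Prop := ∀ n, IsConstructible {v | F v = n}

namespace IsCF

section

variable {V : Type*} [TopologicalSpace V] {F G : V → ℤ}

lemma const (n : ℤ) : IsCF (fun _ : V => n) := by
  intro m
  by_cases h : n = m
  · simp only [h, Set.ofPred_true]
    exact .univ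
  · simp only [h, Set.ofPred_false]
    exact .empty

open Classical in
lemma indicator {C : Set V} (hC : IsConstructible C) : IsCF (fun v => if v ∈ C then (1 : ℤ) else 0) := by
  intro m
  by_cases h1 : m = 1
  · subst h1
    convert hC using 1
    ext v
    by_cases hv : v ∈ C <;> simp [hv]
  by_cases h0 : m = 0
  · subst h0
    convert hC.compl using 1
    ext v
    by_cases hv : v ∈ C <;> simp [hv]
  · convert IsConstructible.empty using 1
    ext v
    by_cases hv : v ∈ C
    · simp [hv, Ne.symm h1]
    · simp [hv, Ne.symm h0]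

lemma mul_const (hF : IsCF F) (n : ℤ) : IsCF (fun v => n * F v) := by
  intro m
  by_cases hn : n = 0
  · subst hn
    simpa using const (V := V) 0 m
  by_cases hm : ∃ k, n * k = m
  · obtain ⟨k, rfl⟩ := hm
    convert hF k using 1
    ext v
    simp [hn]
  · convert IsConstructible.empty using 1
    ext v
    simp only [Set.mem_ofPred_eq, Set.mem_empty_iff_false, iff_false]
    exact fun h => hm ⟨_, h⟩

variable [CompactSpace V] [QuasiSober V] [PrespectralSpace V] [QuasiSeparatedSpace V]

lemma finite_range (hF : IsCF F) : (Set.range F).Finite := by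
  obtain ⟨t, ht⟩ := EtpbcA.ConstrTop.finite_subcover (fun n : ℤ => {v | F v = n}) hF
    (Set.eq_univ_of_forall fun v => Set.mem_iUnion.2 ⟨F v, rfl⟩)
  refine t.finite_toSet.subset ?_
  rintro _ ⟨v, rfl⟩
  have h : v ∈ ⋃ n ∈ t, {v | F v = n} := ht ▸ Set.mem_univ v
  simp only [Set.mem_iUnion, Set.mem_ofPred_eq, exists_prop] at h
  obtain ⟨n, hn, rfl⟩ := h
  exact hn

lemma add (hF : IsCF F) (hG : IsCF G) : IsCF (fun v => F v + G v) := by
  intro m
  have h : {v | F v + G v = m} = ⋃ a ∈ Set.range F, {v | F v = a} ∩ {v | G v = m - a} := by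
    ext v
    simp only [Set.mem_ofPred_eq, Set.mem_iUnion, Set.mem_inter_iff, exists_prop]
    constructor
    · intro h
      exact ⟨F v, ⟨v, rfl⟩, rfl, by omega⟩
    · rintro ⟨a, -, rfl, h⟩
      omega
  rw [h]
  exact IsConstructible.biUnion hF.finite_range fun a _ => (hF a).inter (hG _)

lemma sum {ι : Type*} (s : Finset ι) (F : ι → V → ℤ) (h : ∀ i ∈ s, IsCF (F i)) :
    IsCF (fun v => ∑ i ∈ s, F i v) := by
  classical
  induction s using Finset.induction_on with
  | empty => simpa using const (V := V) 0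
  | insert a s ha ih =>
    simp only [Finset.sum_insert ha]
    exact add (h a (Finset.mem_insert_self _ _)) (ih fun i hi => h i (Finset.mem_insert_of_mem hi))

end

lemma comp {X Y : Scheme.{u}} {F : Y → ℤ} (hF : IsCF F) (f : X ⟶ Y) : IsCF (fun x => F (f x)) :=
  fun n => f.isConstructible_preimage (hF n)

end IsCF

section count

variable {U V : Scheme.{u}}

open Classical in
/-- Number of geometric points of the fibre in `C`. -/
noncomputable def cnt (π : U ⟶ V) (C : Set U) (v : V) : ℤ :=
  MoreMor.fibreIntegral π (fun u => if u ∈ C then (1 : ℤ) else 0) v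

/-- Geometric points in `C`. -/
def S (π : U ⟶ V) (C : Set U) {K : Type u} [Field K] (ω : Spec (.of K) ⟶ V) : Set (Spec (.of K) ⟶ U) :=
  {s | s ≫ π = ω ∧ s (pt K) ∈ C}

lemma finite_lifts (π : U ⟶ V) [LocallyQuasiFinite π] [QuasiCompact π] {K : Type u} [Field K] [IsAlgClosed K]
    (ω : Spec (.of K) ⟶ V) : {s : Spec (.of K) ⟶ U | s ≫ π = ω}.Finite := by
  have h0 : (⊤ : U.Opens).ι = U.topIso.hom := rfl
  have : QuasiCompact ((⊤ : U.Opens).ι ≫ π) := by rw [h0]; infer_instance
  refine (finite_L π ⊤ ω).subset fun s hs => ⟨hs, trivial⟩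

lemma cnt_eq (π : U ⟶ V) [LocallyQuasiFinite π] [QuasiCompact π] (C : Set U) {K : Type u} [Field K]
    [IsAlgClosed K] (ω : Spec (.of K) ⟶ V) : cnt π C (ω (pt K)) = (S π C ω).ncard := by
  classical
  have hf := (finite_lifts π ω)
  have : Finite {s : Spec (.of K) ⟶ U // s ≫ π = ω} := hf
  have := Fintype.ofFinite {s : Spec (.of K) ⟶ U // s ≫ π = ω}
  rw [cnt, fibreIntegral_eq, finsum_eq_sum_of_fintype, Finset.sum_ite, Finset.sum_const_zero, add_zero,
    Finset.sum_const, nsmul_eq_mul, mul_one]
  congr 1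
  rw [← Set.ncard_coe_finset]
  refine Set.ncard_congr (fun s _ => s.1) ?_ ?_ ?_
  · intro s hs
    exact ⟨s.2, by simpa using hs⟩
  · intro s t _ _ h
    exact Subtype.ext h
  · rintro s ⟨hs, hs'⟩
    exact ⟨⟨s, hs⟩, by simpa using hs', rfl⟩

lemma finite_S (π : U ⟶ V) [LocallyQuasiFinite π] [QuasiCompact π] (C : Set U) {K : Type u} [Field K]
    [IsAlgClosed K] (ω : Spec (.of K) ⟶ V) : (S π C ω).Finite :=
  (finite_lifts π ω).subset fun _ hs => hs.1

lemma cnt_nonneg (π : U ⟶ V) [LocallyQuasiFinite π] [QuasiCompact π] (C : Set U) (v : V) : 0 ≤ cnt π C v := by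
  obtain ⟨K, _, _, ω, rfl⟩ := exists_geometric_point V v
  rw [cnt_eq]
  exact Nat.cast_nonneg _

/-- Removing the diagonal point. -/
theorem cnt_snd (π : U ⟶ V) [LocallyQuasiFinite π] [QuasiCompact π] (C : Set U) (u : U) (hu : u ∈ C) :
    cnt (pullback.snd π π) (⇑(pullback.fst π π) ⁻¹' C ∩ (Set.range ⇑(pullback.diagonal π))ᶜ) u =
      cnt π C (π u) - 1 := by
  obtain ⟨K, _, _, ω, rfl⟩ := exists_geometric_point U u
  rw [cnt_eq, ← Scheme.Hom.comp_apply, cnt_eq]
  have hmem : ω ∈ S π C (ω ≫ π) := ⟨rfl, hu⟩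
  have h1 : (S π C (ω ≫ π)).ncard = (S π C (ω ≫ π) \ {ω}).ncard + 1 :=
    (Set.ncard_sdiff_singleton_add_one hmem (finite_S π C _)).symm
  rw [h1]
  push_cast
  rw [add_sub_cancel_right]
  congr 1
  refine Set.ncard_congr (fun s _ => s ≫ pullback.fst π π) ?_ ?_ ?_
  · rintro s ⟨hs, hs1, hs2⟩
    refine ⟨⟨?_, ?_⟩, ?_⟩
    · rw [Category.assoc, pullback.condition, ← Category.assoc, hs]
    · rw [Scheme.Hom.comp_apply]
      exact hs1
    · intro hsω
      rw [Set.mem_singleton_iff] at hsω
      refine hs2 ⟨ω (pt K), ?_⟩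
      have h2 : s = ω ≫ pullback.diagonal π := by
        apply pullback.hom_ext
        · rw [hsω, Category.assoc, pullback.diagonal_fst, Category.comp_id]
        · rw [hs, Category.assoc, pullback.diagonal_snd, Category.comp_id]
      rw [h2, Scheme.Hom.comp_apply]
  · rintro s t ⟨hs, -⟩ ⟨ht, -⟩ h
    apply pullback.hom_ext
    · exact h
    · rw [hs, ht]
  · rintro s ⟨⟨hs, hsC⟩, hsω⟩
    refine ⟨pullback.lift s ω hs, ⟨pullback.lift_snd _ _ _, ?_, ?_⟩, pullback.lift_fst _ _ _⟩
    · show pullback.fst π π (pullback.lift s ω hs (pt K)) ∈ C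
      rw [← Scheme.Hom.comp_apply, pullback.lift_fst]
      exact hsC
    · rintro ⟨z, hz⟩
      obtain ⟨s', hs', -⟩ := exists_lift (pullback.diagonal π) (pullback.lift s ω hs) z hz
      refine hsω ?_
      rw [Set.mem_singleton_iff]
      have e1 : s = s' := by
        rw [← pullback.lift_fst s ω hs, ← hs', Category.assoc, pullback.diagonal_fst, Category.comp_id]
      have e2 : ω = s' := by
        rw [← pullback.lift_snd s ω hs, ← hs', Category.assoc, pullback.diagonal_snd, Category.comp_id]
      rw [e1, e2]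

lemma isConstructible_range_diagonal (π : U ⟶ V) [IsFinite π] [CompactSpace V] [QuasiSeparatedSpace V] :
    IsConstructible (Set.range ⇑(pullback.diagonal π)) := by
  have : CompactSpace ↥(pullback π π) :=
    QuasiCompact.compactSpace_of_compactSpace (pullback.fst π π ≫ π)
  have : QuasiSeparatedSpace ↥(pullback π π) :=
    quasiSeparatedSpace_of_quasiSeparated (pullback.fst π π ≫ π)
  rw [← Set.image_univ]
  exact (pullback.diagonal π).isConstructible_image .univ

/-- The sets where the number of geometric points is at least `n` are constructible. -/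
theorem isConstructible_le_cnt (n : ℕ) : ∀ {U V : Scheme.{u}} (π : U ⟶ V) [IsFinite π]
    [LocallyOfFinitePresentation π] [CompactSpace V] [QuasiSeparatedSpace V] (C : Set U),
    IsConstructible C → IsConstructible {v | (n : ℤ) ≤ cnt π C v} := by
  induction n with
  | zero =>
    intro U V π _ _ _ _ C hC
    have : {v | ((0 : ℕ) : ℤ) ≤ cnt π C v} = Set.univ := Set.eq_univ_of_forall fun v => cnt_nonneg π C v
    rw [this]
    exact .univ
  | succ n ih =>
    intro U V π _ _ _ _ C hC
    have hU1 : CompactSpace U := QuasiCompact.compactSpace_of_compactSpace π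
    have hU2 : QuasiSeparatedSpace U := quasiSeparatedSpace_of_quasiSeparated π
    have h : {v | ((n + 1 : ℕ) : ℤ) ≤ cnt π C v} = ⇑π '' (C ∩ {u | (n : ℤ) ≤ cnt (pullback.snd π π)
        (⇑(pullback.fst π π) ⁻¹' C ∩ (Set.range ⇑(pullback.diagonal π))ᶜ) u}) := by
      ext v
      constructor
      · intro hv
        obtain ⟨K, _, _, ω, rfl⟩ := exists_geometric_point V v
        have hv' : ((n + 1 : ℕ) : ℤ) ≤ cnt π C (ω (pt K)) := hv
        have h1 := hv'
        rw [cnt_eq] at h1
        have h2 : (S π C ω).Nonempty := by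
          apply Set.nonempty_of_ncard_ne_zero
          intro h0
          rw [h0] at h1
          push_cast at h1
          omega
        obtain ⟨s, hs, hsC⟩ := h2
        have h3 : π (s (pt K)) = ω (pt K) := by rw [← Scheme.Hom.comp_apply, hs]
        refine ⟨s (pt K), ⟨hsC, ?_⟩, h3⟩
        show (n : ℤ) ≤ _
        rw [cnt_snd π C _ hsC, h3]
        push_cast at hv'
        omega
      · rintro ⟨u, ⟨huC, hu⟩, rfl⟩
        have hu' : (n : ℤ) ≤ _ := hu
        rw [cnt_snd π C u huC] at hu'
        show ((n + 1 : ℕ) : ℤ) ≤ _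
        push_cast
        omega
    rw [h]
    have h1 : IsConstructible (⇑(pullback.fst π π) ⁻¹' C ∩ (Set.range ⇑(pullback.diagonal π))ᶜ) :=
      ((pullback.fst π π).isConstructible_preimage hC).inter (isConstructible_range_diagonal π).compl
    exact π.isConstructible_image (hC.inter (ih (pullback.snd π π) _ h1))

theorem isCF_cnt (π : U ⟶ V) [IsFinite π] [LocallyOfFinitePresentation π] [CompactSpace V]
    [QuasiSeparatedSpace V] {C : Set U} (hC : IsConstructible C) : IsCF (cnt π C) := by
  intro n
  by_cases hn : 0 ≤ n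
  · obtain ⟨n, rfl⟩ := Int.eq_ofNat_of_zero_le hn
    have h : {v | cnt π C v = n} = {v | (n : ℤ) ≤ cnt π C v} \ {v | ((n + 1 : ℕ) : ℤ) ≤ cnt π C v} := by
      ext v
      simp only [Set.mem_ofPred_eq, Set.mem_sdiff]
      push_cast
      omega
    rw [h]
    exact (isConstructible_le_cnt n π C hC).sdiff (isConstructible_le_cnt (n + 1) π C hC)
  · convert IsConstructible.empty using 1
    ext v
    have := cnt_nonneg π C v
    simp only [Set.mem_ofPred_eq, Set.mem_empty_iff_false, iff_false]
    omega

/-- Linearity of the fibre integral. -/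
lemma fibreIntegral_sum (π : U ⟶ V) [LocallyQuasiFinite π] [QuasiCompact π] {ι : Type*} (s : Finset ι)
    (a : ι → ℤ) (F : ι → U → ℤ) (v : V) :
    MoreMor.fibreIntegral π (fun u => ∑ i ∈ s, a i * F i u) v = ∑ i ∈ s, a i * MoreMor.fibreIntegral π (F i) v := by
  obtain ⟨K, _, _, ω, rfl⟩ := exists_geometric_point V v
  have : Finite {s : Spec (.of K) ⟶ U // s ≫ π = ω} := finite_lifts π ω
  have := Fintype.ofFinite {s : Spec (.of K) ⟶ U // s ≫ π = ω}
  simp only [fibreIntegral_eq, finsum_eq_sum_of_fintype]
  rw [Finset.sum_comm]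
  refine Finset.sum_congr rfl fun i _ => ?_
  rw [Finset.mul_sum]

/-- Fibre integrals of constructible functions are constructible. -/
theorem IsCF.fibreIntegral (π : U ⟶ V) [IsFinite π] [LocallyOfFinitePresentation π] [CompactSpace V]
    [QuasiSeparatedSpace V] {w : U → ℤ} (hw : IsCF w) : IsCF (MoreMor.fibreIntegral π w) := by
  classical
  have hU1 : CompactSpace U := QuasiCompact.compactSpace_of_compactSpace π
  have hU2 : QuasiSeparatedSpace U := quasiSeparatedSpace_of_quasiSeparated π
  obtain ⟨t, ht⟩ := hw.finite_range.exists_finset_coe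
  have h1 : w = fun u => ∑ n ∈ t, n * (if u ∈ {u | w u = n} then (1 : ℤ) else 0) := by
    ext u
    have hu : w u ∈ t := by
      rw [← Finset.mem_coe, ht]
      exact ⟨u, rfl⟩
    rw [Finset.sum_eq_single (w u)]
    · simp
    · intro b _ hb
      simp [Ne.symm hb]
    · exact fun h => (h hu).elim
  have h2 : MoreMor.fibreIntegral π w = fun v => ∑ n ∈ t, n * cnt π {u | w u = n} v := by
    ext v
    conv_lhs => rw [h1]
    rw [fibreIntegral_sum]
    refine Finset.sum_congr rfl fun n _ => ?_
    rw [cnt]
    congr 2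
    funext u
    by_cases hu : u ∈ {u | w u = n}
    · rw [if_pos hu, if_pos hu]
    · rw [if_neg hu, if_neg hu]
  rw [h2]
  exact IsCF.sum t _ fun n _ => (isCF_cnt π (hw n)).mul_const n

end count

end K115.FibreConstr
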