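import Groth.Agent.Lim8.K115.Open2
import Groth.Agent.Old.H20.WeightLevel
import Mathlib.AlgebraicGeometry.Morphisms.UniversallyOpen

/-!
# A certificate for universal openness of quasi-finite morphisms

`f : X ⟶ Y`.  `NU π` is the set of points of the target of `π : U ⟶ V` whose fibre has more than one geometric
point.  `Datum f E`: there are an étale `V ⟶ Y`, a finite surjective finitely presented `π : U ⟶ V` and a
`Y`-morphism `q : U ⟶ X` such that `E` is the image of the part of `U` where `π` is radicial.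

* `Datum.bc`: base change.
* `universallyOpen_of_cover`: `f` is universally open as soon as `X` is covered by sets `E` with a datum.
* `Datum.exists_mem`: a locally quasi-finite universally open morphism locally of finite presentation has a datum
  around each point.
-/

set_option autoImplicit false
set_option backward.isDefEq.respectTransparency false
universe u
open CategoryTheory AlgebraicGeometry CategoryTheory.Limits Topology

namespace K115.Radic

open K115.Open2

/-- The points of `V` over which `π` is not radicial. -/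
def NU {U V : Scheme.{u}} (π : U ⟶ V) : Set V :=
  ⇑(pullback.fst π π ≫ π) '' (Set.range ⇑(pullback.diagonal π))ᶜ

section bc

variable {U V U' V' : Scheme.{u}} {π : U ⟶ V} {π' : U' ⟶ V'} {h : U' ⟶ U} {g : V' ⟶ V}

/-- The comparison of self products. -/
noncomputable def selfMap (hc : IsPullback h π' π g) : pullback π' π' ⟶ pullback π π :=
  pullback.lift (pullback.fst _ _ ≫ h) (pullback.snd _ _ ≫ h)
    (by rw [Category.assoc, Category.assoc, hc.w, pullback.condition_assoc])

lemma isPullback_selfMap_fst (hc : IsPullback h π' π g) :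
    IsPullback (selfMap hc) (pullback.fst π' π') (pullback.fst π π) h := by
  refine IsPullback.of_right (h₁₂ := pullback.snd π π) (h₂₂ := π) (v₁₃ := π) ?_ (by simp [selfMap])
    (IsPullback.of_hasPullback π π).flip
  have h1 : IsPullback (pullback.snd π' π' ≫ h) (pullback.fst π' π') π (π' ≫ g) :=
    (IsPullback.of_hasPullback π' π').flip.paste_horiz hc
  rw [← hc.w] at h1
  simpa [selfMap] using h1

lemma isPullback_selfMap (hc : IsPullback h π' π g) :
    IsPullback (selfMap hc) (pullback.fst π' π' ≫ π') (pullback.fst π π ≫ π) g :=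
  (isPullback_selfMap_fst hc).paste_vert hc

lemma isPullback_selfMap_diagonal (hc : IsPullback h π' π g) :
    IsPullback h (pullback.diagonal π') (pullback.diagonal π) (selfMap hc) := by
  refine IsPullback.of_bot (v₂₁ := pullback.fst π' π') (v₂₂ := pullback.fst π π) (h₃₁ := h) ?_ ?_
    (isPullback_selfMap_fst hc)
  · rw [pullback.diagonal_fst, pullback.diagonal_fst]
    exact IsPullback.of_vert_isIso ⟨by simp⟩
  · apply pullback.hom_ext <;> simp [selfMap]

lemma NU_of_isPullback (hc : IsPullback h π' π g) : NU π' = ⇑g ⁻¹' NU π := by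
  have h1 : Set.range ⇑(pullback.diagonal π') = ⇑(selfMap hc) ⁻¹' Set.range ⇑(pullback.diagonal π) := by
    rw [← Set.image_univ, ← Set.image_univ, ← image_preimage_of_isPullback (isPullback_selfMap_diagonal hc),
      Set.preimage_univ]
  rw [NU, NU, h1, ← Set.preimage_compl, image_preimage_of_isPullback (isPullback_selfMap hc)]

end bc

lemma eq_of_notMem_NU {U V : Scheme.{u}} {π : U ⟶ V} {v : V} (hv : v ∉ NU π) {a b : U} (ha : π a = v)
    (hb : π b = v) : a = b := by
  obtain ⟨z, hz1, hz2⟩ := Scheme.Pullback.exists_preimage_pullback (f := π) (g := π) a b (ha.trans hb.symm)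
  by_contra hab
  refine hv ⟨z, ?_, ?_⟩
  · rintro ⟨w, rfl⟩
    rw [← Scheme.Hom.comp_apply, pullback.diagonal_fst] at hz1
    rw [← Scheme.Hom.comp_apply, pullback.diagonal_snd] at hz2
    exact hab (hz1.symm.trans hz2)
  · rw [Scheme.Hom.comp_apply, hz1, ha]

/-- The data certifying universal openness along `E`. -/
structure Datum {X Y : Scheme.{u}} (f : X ⟶ Y) where
  /-- étale neighbourhood -/
  V : Scheme.{u}
  /-- finite part -/
  U : Scheme.{u}
  /-- the étale morphism -/
  g : V ⟶ Y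
  /-- the finite morphism -/
  π : U ⟶ V
  /-- the morphism to `X` -/
  q : U ⟶ X
  w : q ≫ f = π ≫ g
  etale : Etale g
  finite : IsFinite π
  lfp : LocallyOfFinitePresentation π
  surj : Surjective π

namespace Datum

variable {X Y : Scheme.{u}} {f : X ⟶ Y}

attribute [local instance] Datum.etale Datum.finite Datum.lfp Datum.surj

/-- The subset of `X` certified by the datum. -/
def E (d : Datum f) : Set X := ⇑d.q '' (⇑d.π ⁻¹' (NU d.π)ᶜ)

/-- Base change of a datum. -/
theorem exists_bc (d : Datum f) {X' Y' : Scheme.{u}} {f' : X' ⟶ Y'} {a : X' ⟶ X} {b : Y' ⟶ Y}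
    (h : IsPullback a f' f b) : ∃ d' : Datum f', d'.E = ⇑a ⁻¹' d.E := by
  let V' := pullback d.g b
  let U' := pullback d.π (pullback.fst d.g b)
  let g' : V' ⟶ Y' := pullback.snd d.g b
  let π' : U' ⟶ V' := pullback.snd d.π (pullback.fst d.g b)
  let s : U' ⟶ d.U := pullback.fst d.π (pullback.fst d.g b)
  have hV : IsPullback (pullback.fst d.g b) g' d.g b := IsPullback.of_hasPullback _ _
  have hU : IsPullback s π' d.π (pullback.fst d.g b) := IsPullback.of_hasPullback _ _
  have hUY : IsPullback s (π' ≫ g') (d.π ≫ d.g) b := hU.paste_vert hV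
  rw [← d.w] at hUY
  let q' : U' ⟶ X' := h.lift (s ≫ d.q) (π' ≫ g') (by rw [Category.assoc, hUY.w])
  have hq1 : q' ≫ a = s ≫ d.q := h.lift_fst _ _ _
  have hq2 : q' ≫ f' = π' ≫ g' := h.lift_snd _ _ _
  have hq : IsPullback s q' d.q a := by
    refine IsPullback.of_bot (v₂₁ := f') (v₂₂ := f) (h₃₁ := b) ?_ hq1.symm h
    rw [hq2]
    exact hUY
  refine ⟨⟨V', U', g', π', q', hq2, MorphismProperty.pullback_snd _ _ d.etale,
    MorphismProperty.pullback_snd _ _ d.finite, MorphismProperty.pullback_snd _ _ d.lfp,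
    MorphismProperty.pullback_snd _ _ d.surj⟩, ?_⟩
  show ⇑q' '' (⇑π' ⁻¹' (NU π')ᶜ) = _
  rw [E, ← image_preimage_of_isPullback hq, NU_of_isPullback hU]
  congr 1
  rw [← Set.preimage_compl, ← Set.preimage_comp, ← Set.preimage_comp]
  ext u
  simp only [Set.mem_preimage, Function.comp_apply, Set.mem_compl_iff]
  rw [← Scheme.Hom.comp_apply, ← Scheme.Hom.comp_apply, hU.w]

/-- Openness at the certified points. -/
theorem mem_nhds_image (d : Datum f) {x : X} (hx : x ∈ d.E) {W : Set X} (hW : IsOpen W) (hxW : x ∈ W) :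
    ∃ N : Set Y, IsOpen N ∧ f x ∈ N ∧ N ⊆ ⇑f '' W := by
  obtain ⟨u, hu, rfl⟩ := hx
  let W' : Set d.U := ⇑d.q ⁻¹' W
  have hW' : IsOpen W' := hW.preimage d.q.continuous
  let N : Set d.V := (⇑d.π '' W'ᶜ)ᶜ
  have hN : IsOpen N := (d.π.isClosedMap _ hW'.isClosed_compl).isOpen_compl
  refine ⟨⇑d.g '' N, d.g.isOpenMap _ hN, ⟨d.π u, ?_, ?_⟩, ?_⟩
  · rintro ⟨u', hu', huu'⟩
    have : u' = u := eq_of_notMem_NU hu huu' rfl
    subst this
    exact hu' hxW
  · rw [← Scheme.Hom.comp_apply, ← d.w, Scheme.Hom.comp_apply]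
  · rintro _ ⟨v, hv, rfl⟩
    obtain ⟨u', rfl⟩ := d.π.surjective v
    refine ⟨d.q u', ?_, ?_⟩
    · by_contra h
      exact hv ⟨u', h, rfl⟩
    · rw [← Scheme.Hom.comp_apply, d.w, Scheme.Hom.comp_apply]

end Datum

/-- A morphism whose source is covered by certified sets is open. -/
theorem isOpenMap_of_cover {X Y : Scheme.{u}} (f : X ⟶ Y) (h : ∀ x : X, ∃ d : Datum f, x ∈ d.E) :
    IsOpenMap ⇑f := by
  intro W hW
  rw [isOpen_iff_forall_mem_open]
  rintro _ ⟨x, hx, rfl⟩
  obtain ⟨d, hd⟩ := h x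
  obtain ⟨N, hN, hxN, hNW⟩ := d.mem_nhds_image hd hW hx
  exact ⟨N, hNW, hN, hxN⟩

/-- A morphism whose source is covered by certified sets is universally open. -/
theorem universallyOpen_of_cover {X Y : Scheme.{u}} (f : X ⟶ Y) (h : ∀ x : X, ∃ d : Datum f, x ∈ d.E) :
    UniversallyOpen f := by
  constructor
  intro X' Y' a b f' hc
  refine isOpenMap_of_cover f' fun x' => ?_
  obtain ⟨d, hd⟩ := h (a x')
  obtain ⟨d', hd'⟩ := d.exists_bc (a := a) (b := b) (f' := f') hc.flip
  exact ⟨d', by rw [hd']; exact hd⟩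

section exist

open Groth.Agent.Flat2F Groth.Agent.Flat2F.FibreIntegral Groth.Agent.Flat2F.GeomPts
  Groth.Agent.Flat2F.ResSplit Groth.Agent.Flat2F.Split Groth.Agent.Flat2F.WeightLoc

variable {X Y : Scheme.{u}}

lemma notMem_NU_of_uniq {f : X ⟶ Y} {y : Y} {U : X.Opens} (h : Uniq f y U) : y ∉ NU (U.ι ≫ f) := by
  rintro ⟨w, hw, hwy⟩
  obtain ⟨K, _, _, ω, hω⟩ := exists_geometric_point (pullback (U.ι ≫ f) (U.ι ≫ f)) w
  refine hw ?_
  have key : ω ≫ pullback.fst (U.ι ≫ f) (U.ι ≫ f) = ω ≫ pullback.snd (U.ι ≫ f) (U.ι ≫ f) := by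
    rw [← cancel_mono U.ι]
    refine (h K (ω ≫ pullback.fst (U.ι ≫ f) (U.ι ≫ f) ≫ U.ι ≫ f) ?_).unique ⟨?_, ?_⟩ ⟨?_, ?_⟩
    · rw [Scheme.Hom.comp_apply, hω, hwy]
    · simp only [Category.assoc]
    · rw [Scheme.Hom.comp_apply]
      exact ι_apply_mem U _
    · simp only [Category.assoc]
      rw [pullback.condition]
    · rw [Scheme.Hom.comp_apply]
      exact ι_apply_mem U _
  have key2 : (ω ≫ pullback.fst (U.ι ≫ f) (U.ι ≫ f)) ≫ pullback.diagonal (U.ι ≫ f) = ω := by
    apply pullback.hom_ext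
    · rw [Category.assoc, pullback.diagonal_fst, Category.comp_id]
    · rw [Category.assoc, pullback.diagonal_snd, Category.comp_id, key]
  refine ⟨(ω ≫ pullback.fst (U.ι ≫ f) (U.ι ≫ f)) (pt K), ?_⟩
  rw [← Scheme.Hom.comp_apply, key2, hω]

/-- Existence of data. -/
theorem Datum.exists_mem (f : X ⟶ Y) [LocallyOfFinitePresentation f] [LocallyQuasiFinite f]
    [UniversallyOpen f] (x : X) : ∃ d : Datum f, IsAffine d.V ∧ x ∈ d.E := by
  obtain ⟨V, g, v, hg, hv, H⟩ := exists_splitOver_singleton f x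
  obtain ⟨z, hz1, hz2⟩ := Scheme.Pullback.exists_preimage_pullback (f := f) (g := g) x v hv.symm
  obtain ⟨U, hU, hf, hu⟩ := H z hz1 hz2
  rw [hz2] at hu
  have hO : IsOpen (⇑(pullback.snd f g) '' (U : Set ↥(pullback f g))) :=
    (pullback.snd f g).isOpenMap _ U.2
  obtain ⟨N, hN, hvN, hNU⟩ := exists_isAffineOpen_mem_and_subset (X := V) (x := v)
    (U := ⟨_, hO⟩) ⟨z, hU, hz2⟩
  have : IsAffine N := hN
  have hfp : LocallyOfFinitePresentation (U.ι ≫ pullback.snd f g) := inferInstance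
  have hpb := isPullback_morphismRestrict (U.ι ≫ pullback.snd f g) N
  let u : ((U.ι ≫ pullback.snd f g) ⁻¹ᵁ N : (U : Scheme.{u}).Opens) := ⟨⟨z, hU⟩, by
    show (U.ι ≫ pullback.snd f g) ⟨z, hU⟩ ∈ N
    rw [Scheme.Hom.comp_apply]
    show pullback.snd f g z ∈ N
    rw [hz2]
    exact hvN⟩
  refine ⟨⟨N, _, N.ι ≫ g, (U.ι ≫ pullback.snd f g) ∣_ N,
    ((U.ι ≫ pullback.snd f g) ⁻¹ᵁ N).ι ≫ U.ι ≫ pullback.fst f g, ?_, inferInstance, inferInstance,
    MorphismProperty.of_isPullback hpb.flip hfp, ⟨?_⟩⟩, this, ?_⟩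
  · rw [Category.assoc, Category.assoc, pullback.condition, morphismRestrict_ι_assoc]
    simp only [Category.assoc]
  · rintro ⟨n, hn⟩
    obtain ⟨w, hw, hwn⟩ := hNU hn
    refine ⟨⟨⟨w, hw⟩, ?_⟩, ?_⟩
    · show (U.ι ≫ pullback.snd f g) ⟨w, hw⟩ ∈ N
      rw [Scheme.Hom.comp_apply]
      show pullback.snd f g w ∈ N
      rw [hwn]
      exact hn
    · apply Subtype.ext
      show N.ι (((U.ι ≫ pullback.snd f g) ∣_ N) _) = n
      rw [← Scheme.Hom.comp_apply, morphismRestrict_ι]
      exact hwn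
  · refine ⟨u, ?_, ?_⟩
    · show ((U.ι ≫ pullback.snd f g) ∣_ N) u ∈ (NU ((U.ι ≫ pullback.snd f g) ∣_ N))ᶜ
      rw [NU_of_isPullback hpb.flip]
      show ¬ (N.ι (((U.ι ≫ pullback.snd f g) ∣_ N) u) ∈ NU (U.ι ≫ pullback.snd f g))
      rw [← Scheme.Hom.comp_apply, morphismRestrict_ι]
      have e : (((U.ι ≫ pullback.snd f g) ⁻¹ᵁ N).ι ≫ U.ι ≫ pullback.snd f g) u = v := hz2
      rw [e]
      exact notMem_NU_of_uniq hu
    · exact hz1

end exist

end K115.Radic
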