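import Groth.Agent.S1456
import Groth.Agent.Flat2G.StratGlue
import Groth.Agent.Flat2D.ApproxFP

/-!
# Smooth stratifications after a finite locally free cover of the strata: the affine case

* `SmLike f g`: for `g : Z ⟶ S`, there is a finite locally free surjective `v : T ⟶ Z` such that `X ×_S T ⟶ T` has
  a smooth stratification; stable under base change.
* `Pr f I J`: `SmLike` for all `Z ⟶ Spec (A / I)` avoiding `V(J)`.
* `exists_step`, `exists_chain_of_isNoetherianRing`, `exists_chain`.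
-/

set_option autoImplicit false
set_option linter.style.haveILetI false
universe u

open CategoryTheory CategoryTheory.Limits AlgebraicGeometry

namespace K115.SmStrat

open Groth.Agent Groth.Agent.Flat2G.StratBase Groth.Agent.Flat2G.StratAffine

/-- After a finite locally free cover of `Z`, the pullback of `f` to `Z` has a smooth stratification. -/
def SmLike {X S Z : Scheme.{u}} (f : X ⟶ S) (g : Z ⟶ S) : Prop :=
  ∃ (T : Scheme.{u}) (v : T ⟶ Z), Surjective v ∧ Mor2.IsFinLocFree v ∧ HasSmoothStrat (pullback.snd f (v ≫ g))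

/-- Base change of a smooth stratification, with arbitrary pullback squares. -/
theorem hasSmoothStrat_of_comp {X S T T' P P' : Scheme.{u}} {f : X ⟶ S} {w : T ⟶ S} {t : T' ⟶ T} {w' : T' ⟶ S}
    (e : t ≫ w = w') {p : P ⟶ X} {π : P ⟶ T} (H : IsPullback p π f w) {p' : P' ⟶ X} {π' : P' ⟶ T'}
    (H' : IsPullback p' π' f w') (h : HasSmoothStrat π) : HasSmoothStrat π' := by
  subst e
  let r : P' ⟶ P := H.lift p' (π' ≫ t) (by rw [Category.assoc, H'.w])
  have h1 : r ≫ p = p' := H.lift_fst _ _ _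
  have h2 : r ≫ π = π' ≫ t := H.lift_snd _ _ _
  refine h.of_isPullback (p := r) (v := t) ?_
  refine IsPullback.of_right (h₁₂ := p) (h₂₂ := w) (v₁₃ := f) ?_ h2 H
  rw [h1]
  exact H'

theorem finLocFree_pullback_snd {Z Z' T : Scheme.{u}} {v : T ⟶ Z} (hv : Mor2.IsFinLocFree v) (h : Z' ⟶ Z) :
    Mor2.IsFinLocFree (pullback.snd v h) := by
  obtain ⟨h1, h2, h3⟩ := hv
  exact ⟨inferInstance, inferInstance, inferInstance⟩

/-- Base change. -/
theorem SmLike.of_isPullback {X S X' S' Z Z' : Scheme.{u}} {f : X ⟶ S} {f' : X' ⟶ S'} {a : X' ⟶ X} {b : S' ⟶ S}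
    (H : IsPullback a f' f b) {g : Z ⟶ S} {g' : Z' ⟶ S'} {h : Z' ⟶ Z} (e : h ≫ g = g' ≫ b) (hs : SmLike f g) :
    SmLike f' g' := by
  obtain ⟨T, v, hv, hv', hst⟩ := hs
  refine ⟨pullback v h, pullback.snd v h, inferInstance, finLocFree_pullback_snd hv' h, ?_⟩
  refine hasSmoothStrat_of_comp (w := v ≫ g) (t := pullback.fst v h) (w' := (pullback.snd v h ≫ g') ≫ b) ?_
    (IsPullback.of_hasPullback f (v ≫ g))
    ((IsPullback.of_hasPullback f' (pullback.snd v h ≫ g')).paste_horiz H) hst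
  rw [pullback.condition_assoc, e, Category.assoc]

/-- Composition with `S' ⟶ S`. -/
theorem SmLike.comp {X S X' S' Z : Scheme.{u}} {f : X ⟶ S} {f' : X' ⟶ S'} {a : X' ⟶ X} {b : S' ⟶ S}
    (H : IsPullback a f' f b) {g' : Z ⟶ S'} (hs : SmLike f' g') : SmLike f (g' ≫ b) := by
  obtain ⟨T, v, hv, hv', hst⟩ := hs
  refine ⟨T, v, hv, hv', ?_⟩
  exact hasSmoothStrat_of_comp (w := (v ≫ g') ≫ b) (t := 𝟙 T) (w' := v ≫ g' ≫ b) (by simp)
    ((IsPullback.of_hasPullback f' (v ≫ g')).paste_horiz H) (IsPullback.of_hasPullback f (v ≫ g' ≫ b)) hst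

theorem SmLike.comp_left {X S Z Z' : Scheme.{u}} {f : X ⟶ S} {g : Z ⟶ S} (hs : SmLike f g) (h : Z' ⟶ Z) :
    SmLike f (h ≫ g) :=
  SmLike.of_isPullback (a := 𝟙 X) (b := 𝟙 S) (IsPullback.of_horiz_isIso ⟨by simp⟩) (h := h) (g := g)
    (by simp) hs

theorem smLike_of_isEmpty {X S Z : Scheme.{u}} (f : X ⟶ S) (g : Z ⟶ S) [IsEmpty Z] : SmLike f g := by
  refine ⟨Z, 𝟙 Z, inferInstance, ⟨inferInstance, inferInstance, inferInstance⟩, 0, fun _ => ⊤, monotone_const, rfl,
    ?_, fun _ O => ?_, fun i => i.elim0⟩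
  · have : IsEmpty ↥(pullback f (𝟙 Z ≫ g)) := Function.isEmpty (pullback.snd f (𝟙 Z ≫ g))
    exact Set.eq_univ_of_forall fun x => (IsEmpty.false x).elim
  · rw [Scheme.IdealSheafData.ideal_top]
    exact ⟨{1}, by simp⟩

/-- the map of spectra -/
noncomputable abbrev sp {A B : Type u} [CommRing A] [CommRing B] (φ : A →+* B) :
    Spec (CommRingCat.of B) ⟶ Spec (CommRingCat.of A) := Spec.map (CommRingCat.ofHom φ)

theorem sp_comp {A B C : Type u} [CommRing A] [CommRing B] [CommRing C] (φ : A →+* B) (ψ : B →+* C) :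
    sp (ψ.comp φ) = sp ψ ≫ sp φ := by
  rw [sp, CommRingCat.ofHom_comp, Spec.map_comp]

theorem mem_sp {A B : Type u} [CommRing A] [CommRing B] (φ : A →+* B) (x : Spec (CommRingCat.of B)) (a : A) :
    a ∈ (sp φ x).asIdeal ↔ φ a ∈ x.asIdeal := Iff.rfl

/-- `f` has, after a finite locally free cover, a smooth stratification over everything that maps to `V(I)`,
avoiding `V(J)`. -/
def Pr {A : Type u} [CommRing A] {X : Scheme.{u}} (f : X ⟶ Spec (CommRingCat.of A)) (I J : Ideal A) : Prop :=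
  ∀ (Z : Scheme.{u}) (g : Z ⟶ Spec (CommRingCat.of (A ⧸ I))),
    (∀ z : Z, ¬ J ≤ (sp (Ideal.Quotient.mk I) (g z)).asIdeal) → SmLike f (g ≫ sp (Ideal.Quotient.mk I))

section Pr

variable {A : Type u} [CommRing A] {X : Scheme.{u}} {f : X ⟶ Spec (CommRingCat.of A)} {I I' J J' : Ideal A}

theorem le_asIdeal (I : Ideal A) (x : Spec (CommRingCat.of (A ⧸ I))) :
    I ≤ (sp (Ideal.Quotient.mk I) x).asIdeal := by
  intro a ha
  rw [mem_sp, Ideal.Quotient.eq_zero_iff_mem.mpr ha]
  exact Ideal.zero_mem _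

theorem Pr.mono (h : Pr f I J) (hI : I ≤ I') (hJ : J' ≤ (J ⊔ I').radical) : Pr f I' J' := by
  intro Z g hg
  have e : sp (Ideal.Quotient.factor hI) ≫ sp (Ideal.Quotient.mk I) = sp (Ideal.Quotient.mk I') := by
    rw [← sp_comp, Ideal.Quotient.factor_comp_mk]
  have h1 := h Z (g ≫ sp (Ideal.Quotient.factor hI)) fun z hz => by
    refine hg z (hJ.trans ?_)
    have e2 : sp (Ideal.Quotient.mk I) ((g ≫ sp (Ideal.Quotient.factor hI)) z) =
        sp (Ideal.Quotient.mk I') (g z) := by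
      rw [Scheme.Hom.comp_apply, ← Scheme.Hom.comp_apply, e]
    rw [e2] at hz
    have := (sp (Ideal.Quotient.mk I') (g z)).isPrime
    rw [Ideal.IsPrime.radical_le_iff this]
    exact sup_le hz (le_asIdeal I' _)
  rwa [Category.assoc, e] at h1

theorem Pr.top (J : Ideal A) : Pr f ⊤ J := by
  intro Z g _
  have : IsEmpty (Spec (CommRingCat.of (A ⧸ (⊤ : Ideal A)))) := by
    have : Subsingleton (A ⧸ (⊤ : Ideal A)) := Ideal.Quotient.subsingleton_iff.mpr rfl
    exact inferInstanceAs (IsEmpty (PrimeSpectrum (A ⧸ (⊤ : Ideal A))))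
  have : IsEmpty Z := Function.isEmpty g
  exact smLike_of_isEmpty _ _

theorem Pr.baseChange {A₀ : Type u} [CommRing A₀] {X₀ : Scheme.{u}} {f₀ : X₀ ⟶ Spec (CommRingCat.of A₀)}
    {φ : A₀ →+* A} {a : X ⟶ X₀} (H : IsPullback a f f₀ (sp φ)) {I J : Ideal A₀} (h : Pr f₀ I J) :
    Pr f (I.map φ) (J.map φ) := by
  intro Z g hg
  let ψ : A₀ ⧸ I →+* A ⧸ I.map φ := Ideal.quotientMap (I.map φ) φ Ideal.le_comap_map
  have e : sp ψ ≫ sp (Ideal.Quotient.mk I) = sp (Ideal.Quotient.mk (I.map φ)) ≫ sp φ := by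
    rw [← sp_comp, ← sp_comp]
    congr 1
  refine SmLike.of_isPullback H (h := 𝟙 Z) (g := (g ≫ sp ψ) ≫ sp (Ideal.Quotient.mk I)) ?_ (h Z (g ≫ sp ψ) ?_)
  · rw [Category.id_comp, Category.assoc, e, Category.assoc]
  · intro z hz
    refine hg z ?_
    rw [Ideal.map_le_iff_le_comap]
    have e2 : sp (Ideal.Quotient.mk I) ((g ≫ sp ψ) z) = sp φ (sp (Ideal.Quotient.mk (I.map φ)) (g z)) := by
      rw [Scheme.Hom.comp_apply, ← Scheme.Hom.comp_apply, e, Scheme.Hom.comp_apply]
    rw [e2] at hz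
    exact hz

end Pr

section Chain

/-- one step of the Noetherian induction -/
theorem exists_step {A : Type u} [CommRing A] {X : Scheme.{u}} (f : X ⟶ Spec (CommRingCat.of A))
    [LocallyOfFinitePresentation f] [QuasiCompact f] [QuasiSeparated f] (I : Ideal A) (hI : I.IsRadical)
    (hI' : I ≠ ⊤) : ∃ h : A, h ∉ I ∧ Pr f I (Ideal.span {h}) := by
  have hred : _root_.IsReduced (A ⧸ I) := (Ideal.isRadical_iff_quotient_reduced I).mp hI
  have hnt : Nontrivial (A ⧸ I) := Ideal.Quotient.nontrivial_iff.mpr hI'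
  let S := Spec (CommRingCat.of (A ⧸ I))
  have hS : IsReduced S := inferInstance
  let c : S ⟶ Spec (CommRingCat.of A) := sp (Ideal.Quotient.mk I)
  let fS : pullback f c ⟶ S := pullback.snd f c
  obtain ⟨x⟩ : Nonempty S := inferInstanceAs (Nonempty (PrimeSpectrum (A ⧸ I)))
  have hW : irreducibleComponent x ∈ irreducibleComponents S := irreducibleComponent_mem_irreducibleComponents x
  have hirr : IsIrreducible (irreducibleComponent x) := isIrreducible_irreducibleComponent
  let η : S := hirr.genericPoint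
  have hη : IsGenericPoint η (irreducibleComponent x) := by
    have h1 := hirr.isGenericPoint_genericPoint_closure
    rwa [isClosed_irreducibleComponent.closure_eq] at h1
  obtain ⟨U, V, v, hηU, hv1, -, hv2, t, J, h3, h4, h5, h6, h7⟩ := Groth.Agent.S1456.result fS η _ hW hη
  have hUlike : SmLike fS U.ι := by
    refine ⟨V, v, hv1, hv2, t, J, h3, h4, h5, h6, fun i => ?_⟩
    have := h7 i
    rw [Category.assoc]
    exact this
  obtain ⟨_, ⟨_, ⟨b, rfl⟩, rfl⟩, hηb, hbU⟩ := (PrimeSpectrum.isBasis_basic_opens (R := A ⧸ I)).exists_subset_of_mem_open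
    hηU U.2
  obtain ⟨h, rfl⟩ := Ideal.Quotient.mk_surjective b
  refine ⟨h, fun hh => ?_, ?_⟩
  · have h8 : Ideal.Quotient.mk I h ∉ η.asIdeal := hηb
    rw [Ideal.Quotient.eq_zero_iff_mem.mpr hh] at h8
    exact h8 (Ideal.zero_mem _)
  · intro Z g hg
    have hr : Set.range g ⊆ Set.range U.ι := by
      rw [Scheme.Opens.range_ι]
      rintro _ ⟨z, rfl⟩
      refine hbU ?_
      intro h8
      refine hg z ?_
      rw [Ideal.span_singleton_le_iff_mem]
      exact h8
    have h9 : IsOpenImmersion.lift U.ι g hr ≫ U.ι = g := IsOpenImmersion.lift_fac _ _ _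
    have h10 : SmLike fS g := by
      rw [← h9]
      exact hUlike.comp_left _
    exact SmLike.comp (IsPullback.of_hasPullback f c) h10

/-- Noetherian case: chain of ideals. -/
theorem exists_chain_of_isNoetherianRing {A : Type u} [CommRing A] [IsNoetherianRing A] {X : Scheme.{u}}
    (f : X ⟶ Spec (CommRingCat.of A)) [LocallyOfFinitePresentation f] [QuasiCompact f] [QuasiSeparated f]
    (I : Ideal A) : ∃ (t : ℕ) (H : Fin (t + 1) → Ideal A), Monotone H ∧ H (Fin.last t) = ⊤ ∧ I ≤ H 0 ∧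
      H 0 ≤ I.radical ∧ ∀ i : Fin t, Pr f (H i.castSucc) (H i.succ) := by
  induction I using WellFoundedGT.induction with
  | ind I ih =>
    by_cases hI : I.radical = ⊤
    · exact ⟨0, fun _ => ⊤, monotone_const, rfl, le_top, hI.ge, fun i => i.elim0⟩
    · obtain ⟨h, hh, hfl⟩ := exists_step f I.radical (Ideal.radical_isRadical I) hI
      have hlt : I < I.radical ⊔ Ideal.span {h} := by
        refine lt_of_le_of_ne (Ideal.le_radical.trans le_sup_left) fun he => hh ?_
        have : h ∈ I := by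
          rw [he]
          exact (le_sup_right : Ideal.span {h} ≤ _) (Ideal.mem_span_singleton_self h)
        exact Ideal.le_radical this
      obtain ⟨t, H, hmono, hlast, h0, h0', hH⟩ := ih _ hlt
      refine ⟨t + 1, Fin.cons I.radical H, ?_, ?_, ?_, ?_, ?_⟩
      · rw [Fin.monotone_iff_le_succ]
        intro i
        refine Fin.cases ?_ (fun i => ?_) i
        · simp only [Fin.castSucc_zero, Fin.cons_zero, Fin.cons_succ]
          exact le_sup_left.trans h0
        · simp only [Fin.cons_succ, ← Fin.succ_castSucc]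
          exact hmono (Fin.castSucc_le_succ i)
      · rw [← Fin.succ_last, Fin.cons_succ]
        exact hlast
      · exact Ideal.le_radical
      · exact le_rfl
      · intro i
        refine Fin.cases ?_ (fun i => ?_) i
        · simp only [Fin.castSucc_zero, Fin.cons_zero, Fin.cons_succ]
          refine hfl.mono le_rfl ?_
          rwa [sup_comm]
        · simp only [Fin.cons_succ, ← Fin.succ_castSucc]
          exact hH i

/-- General affine case: chain of finitely generated ideals. -/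
theorem exists_chain {A : Type u} [CommRing A] {X : Scheme.{u}}
    (f : X ⟶ Spec (CommRingCat.of A)) [LocallyOfFinitePresentation f] [QuasiCompact f] [QuasiSeparated f] :
    ∃ (t : ℕ) (H : Fin (t + 1) → Ideal A), Monotone H ∧ H (Fin.last t) = ⊤ ∧ (∀ i, (H i).FG) ∧
      H 0 ≤ nilradical A ∧ ∀ i : Fin t, Pr f (H i.castSucc) (H i.succ) := by
  obtain ⟨A₀, hA₀, X₀, f₀, a, h1, h2, h3, hsq⟩ := Flat2D.ApproxFP.exists_model_Spec A f
  haveI : Algebra.FiniteType ℤ A₀ := A₀.fg_iff_finiteType.mp hA₀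
  haveI : IsNoetherianRing A₀ := Algebra.FiniteType.isNoetherianRing ℤ A₀
  obtain ⟨t, H, hmono, hlast, -, h0, hH⟩ := exists_chain_of_isNoetherianRing f₀ ⊥
  refine ⟨t, fun i => (H i).map (A₀.val.toRingHom : A₀ →+* A), fun i j hij => Ideal.map_mono (hmono hij), ?_, ?_, ?_, ?_⟩
  · simp only [hlast, Ideal.map_top]
  · intro i
    exact Ideal.FG.map (IsNoetherian.noetherian (H i)) _
  · rw [Ideal.map_le_iff_le_comap]
    intro x hx
    have := h0 hx
    rw [Ideal.mem_comap, mem_nilradical]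
    rw [Ideal.mem_radical_iff] at this
    obtain ⟨k, hk⟩ := this
    refine ⟨k, ?_⟩
    rw [← map_pow, (Submodule.mem_bot _).mp hk, map_zero]
  · intro i
    exact (hH i).baseChange hsq

end Chain

theorem smLike_of_factor {X S : Scheme.{u}} (f : X ⟶ S) {A : Type u} [CommRing A] (fs : Spec (CommRingCat.of A) ⟶ S)
    {I₀ J₀ : Ideal A} (hP : Pr (pullback.snd f fs) I₀ J₀) {Y Z : Scheme.{u}} (i : Y ⟶ S)
    (cov : Spec (CommRingCat.of (A ⧸ I₀)) ⟶ Y) [IsOpenImmersion cov] (h : cov ≫ i = sp (Ideal.Quotient.mk I₀) ≫ fs)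
    (j : Z ⟶ Y) (hr : Set.range j ⊆ Set.range cov)
    (hJ : ∀ (x : Spec (CommRingCat.of A)) (z : Z), (j ≫ i) z = fs x → ¬ J₀ ≤ x.asIdeal) : SmLike f (j ≫ i) := by
  let g := IsOpenImmersion.lift cov j hr
  have hg : g ≫ cov = j := IsOpenImmersion.lift_fac _ _ _
  have hg2 : (g ≫ sp (Ideal.Quotient.mk I₀)) ≫ fs = j ≫ i := by
    rw [Category.assoc, ← h, reassoc_of% hg]
  have h2 := hP _ g fun z hz => by
    refine hJ _ z ?_ hz
    rw [← hg2, Scheme.Hom.comp_apply, Scheme.Hom.comp_apply]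
  have h8 := SmLike.comp (IsPullback.of_hasPullback f fs) h2
  rwa [hg2] at h8

/-- The stratum of a pair of ideal sheaves, contained in an affine open. -/
theorem smLike_stratι {X S : Scheme.{u}} (f : X ⟶ S) (I J : S.IdealSheafData) (U : S.affineOpens)
    (hIJ : (I.support : Set S) \ (J.support : Set S) ⊆ ((U : S.Opens) : Set S))
    (hP : Pr (A := Γ(S, U)) (pullback.snd f U.2.fromSpec) (I.ideal U) (J.ideal U)) : SmLike f (stratι I J) := by
  have hopen : IsOpenImmersion (X := Spec (CommRingCat.of (Γ(S, U) ⧸ I.ideal U))) (Y := I.subscheme)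
      (I.subschemeCover.f U) := I.subschemeCover.map_prop U
  refine smLike_of_factor (A := Γ(S, U)) f U.2.fromSpec hP I.subschemeι (I.subschemeCover.f U)
    ((I.subschemeCover_map_subschemeι U).trans (I.glueDataObjι_ι U)) _ ?_ ?_
  · have h1 : Set.range (I.subschemeCover.f U) = ((I.subschemeι ⁻¹ᵁ U.1 : I.subscheme.Opens) : Set I.subscheme) :=
      congrArg (fun W : I.subscheme.Opens => (W : Set I.subscheme)) (I.opensRange_subschemeCover_map U)
    rw [Scheme.Opens.range_ι]
    intro x hx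
    refine h1.ge (hIJ ⟨?_, hx⟩)
    have h2 : I.subschemeι x ∈ Set.range I.subschemeι := ⟨_, rfl⟩
    rwa [Scheme.IdealSheafData.range_subschemeι] at h2
  · intro x z hxz hx
    have h3 : stratι I J z ∉ J.support := z.2
    have h4 : stratι I J z ∈ (U : S.Opens) := by
      rw [hxz]
      have h5 : U.2.fromSpec x ∈ Set.range U.2.fromSpec := ⟨_, rfl⟩
      rwa [U.2.range_fromSpec] at h5
    refine h3 ?_
    rw [J.mem_support_iff_of_mem (U := U) h4, Scheme.mem_zeroLocus_iff]
    intro s hs hzs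
    rw [hxz] at hzs
    have h7 : x ∈ U.2.fromSpec ⁻¹ᵁ S.basicOpen s := hzs
    rw [U.2.fromSpec_preimage_basicOpen] at h7
    exact h7 (hx hs)

end K115.SmStrat
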