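import Groth.Agent.Old.H13.WeightBC

/-!
# An étale-local criterion for weightings

`Good f w x`: near `x` the morphism `f` is finite, with one geometric point over `f x`, and the fibre integral of `w`
is constant near `f x`.

* `isWeighting_of_good`: `w` is a weighting of `f` as soon as every point of `X` is good after an étale base change
  (at some point over it).
-/

set_option autoImplicit false
set_option backward.isDefEq.respectTransparency false
universe u

namespace K115.WeightCrit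

open AlgebraicGeometry CategoryTheory Limits Topology
open Groth.Agent Groth.Agent.Flat2F Groth.Agent.Flat2F.FibreIntegral Groth.Agent.Flat2F.GeomPts
  Groth.Agent.Flat2F.ResSplit Groth.Agent.Flat2F.Split Groth.Agent.Flat2F.WeightLoc Groth.Agent.Old.H13.WeightBC

variable {X Y : Scheme.{u}}

/-- Near `x` the morphism is finite with one geometric point over `f x`, and the fibre integral of `w` is
constant near `f x`. -/
def Good (f : X ⟶ Y) (w : X → ℤ) (x : X) : Prop :=
  ∃ U : X.Opens, x ∈ U ∧ IsFinite (U.ι ≫ f) ∧ Uniq f (f x) U ∧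
    ∀ᶠ y in 𝓝 (f x), MoreMor.fibreIntegral (U.ι ≫ f) (fun u => w (U.ι u)) y =
      MoreMor.fibreIntegral (U.ι ≫ f) (fun u => w (U.ι u)) (f x)

lemma Good.split {f : X ⟶ Y} {w : X → ℤ} {x : X} (h : Good f w x) : Split f x := by
  obtain ⟨U, h1, h2, h3, -⟩ := h
  exact ⟨U, h1, h2, h3⟩

lemma Good.baseChange {X' Y' : Scheme.{u}} {f : X ⟶ Y} [LocallyQuasiFinite f] {f' : X' ⟶ Y'} {h : X' ⟶ X}
    {g : Y' ⟶ Y} (hc : IsPullback h f' f g) {w : X → ℤ} {x' : X'} (hx : Good f w (h x')) :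
    Good f' (fun x => w (h x)) x' := by
  obtain ⟨U, hU, hf, hu, hw⟩ := hx
  have hg : g (f' x') = f (h x') := by
    rw [← Scheme.Hom.comp_apply, ← hc.w, Scheme.Hom.comp_apply]
  refine ⟨h ⁻¹ᵁ U, hU, isFinite_baseChange_ι hc U, Uniq.baseChange hc (by rwa [hg]), ?_⟩
  have h1 : ∀ᶠ y' in 𝓝 (f' x'), MoreMor.fibreIntegral (U.ι ≫ f) (fun u => w (U.ι u)) (g y') =
      MoreMor.fibreIntegral (U.ι ≫ f) (fun u => w (U.ι u)) (f (h x')) := by
    have := g.continuous.tendsto (f' x')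
    rw [hg] at this
    exact this.eventually hw
  filter_upwards [h1] with y' hy'
  rw [fibreIntegral_preimage hc w U, fibreIntegral_preimage hc w U, hy', hg]

/-- All points over `v` mapping to `A` are good. -/
def GoodOver (f : X ⟶ Y) (w : X → ℤ) (A : Set X) {V : Scheme.{u}} (g : V ⟶ Y) (v : V) : Prop :=
  ∀ z : ↥(pullback f g), pullback.fst f g z ∈ A → pullback.snd f g z = v →
    Good (pullback.snd f g) (fun z => w (pullback.fst f g z)) z

lemma GoodOver.good {f : X ⟶ Y} [LocallyQuasiFinite f] {w : X → ℤ} {A : Set X} {V : Scheme.{u}} {g : V ⟶ Y}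
    {v : V} (H : GoodOver f w A g v) {X' V' : Scheme.{u}} {h : X' ⟶ X} {f' : X' ⟶ V'} {g' : V' ⟶ V}
    (hc : IsPullback h f' f (g' ≫ g)) (x' : X') (h1 : h x' ∈ A) (h2 : g' (f' x') = v) :
    Good f' (fun x => w (h x)) x' := by
  let m : X' ⟶ pullback f g := pullback.lift h (f' ≫ g') (by rw [hc.w, Category.assoc])
  have hm1 : m ≫ pullback.fst f g = h := pullback.lift_fst _ _ _
  have hm : IsPullback m f' (pullback.snd f g) g' := by
    refine IsPullback.of_right (h₁₂ := pullback.fst f g) (v₁₃ := f) (h₂₂ := g) ?_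
      (pullback.lift_snd _ _ _) (IsPullback.of_hasPullback _ _)
    rw [hm1]
    exact hc
  have := Good.baseChange hm (H (m x') ?_ ?_)
  · convert this using 2
    rw [← Scheme.Hom.comp_apply, hm1]
  · rwa [← Scheme.Hom.comp_apply, hm1]
  · rwa [← Scheme.Hom.comp_apply, hm.w, Scheme.Hom.comp_apply]

lemma GoodOver.refine' {f : X ⟶ Y} [LocallyQuasiFinite f] {w : X → ℤ} {A : Set X} {V : Scheme.{u}} {g : V ⟶ Y}
    {v : V} (H : GoodOver f w A g v) {V' : Scheme.{u}} (g' : V' ⟶ V) {v' : V'} (e : g' v' = v)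
    (g'' : V' ⟶ Y) (h : g' ≫ g = g'') : GoodOver f w A g'' v' := by
  subst h
  intro z hz1 hz2
  exact H.good (IsPullback.of_hasPullback f (g' ≫ g)) z hz1 (by rw [hz2, e])

/-- Combining finitely many points of a fibre. -/
lemma exists_goodOver_of_finite (f : X ⟶ Y) [LocallyQuasiFinite f] (w : X → ℤ) (y : Y) (A : Set X) (hA : A.Finite)
    (H : ∀ x ∈ A, ∃ (V : Scheme.{u}) (g : V ⟶ Y) (v : V), Etale g ∧ g v = y ∧ GoodOver f w {x} g v) :
    ∃ (V : Scheme.{u}) (g : V ⟶ Y) (v : V), Etale g ∧ g v = y ∧ GoodOver f w A g v := by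
  induction A, hA using Set.Finite.induction_on with
  | empty => exact ⟨Y, 𝟙 Y, y, inferInstance, by simp, fun z hz => hz.elim⟩
  | @insert x A hx hA ih =>
    obtain ⟨V₁, g₁, v₁, hg₁, hv₁, H₁⟩ := ih fun x hx => H x (Set.mem_insert_of_mem _ hx)
    obtain ⟨V₂, g₂, v₂, hg₂, hv₂, H₂⟩ := H x (Set.mem_insert _ _)
    obtain ⟨v, hv1, hv2⟩ := Scheme.Pullback.exists_preimage_pullback (f := g₁) (g := g₂) v₁ v₂
      (hv₁.trans hv₂.symm)
    refine ⟨pullback g₁ g₂, pullback.fst g₁ g₂ ≫ g₁, v, inferInstance, ?_, ?_⟩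
    · rw [Scheme.Hom.comp_apply, hv1, hv₁]
    · have h1 := H₂.refine' (pullback.snd g₁ g₂) hv2 _ pullback.condition.symm
      have h2 := H₁.refine' (pullback.fst g₁ g₂) hv1 _ rfl
      intro z hz1 hz2
      rcases hz1 with hz1 | hz1
      · exact h1 z hz1 hz2
      · exact h2 z hz1 hz2

/-- Étale-local goodness. -/
def EtGood (f : X ⟶ Y) (w : X → ℤ) (x : X) : Prop :=
  ∃ (V : Scheme.{u}) (g : V ⟶ Y) (z : ↥(pullback f g)), Etale g ∧ pullback.fst f g z = x ∧
    Good (pullback.snd f g) (fun z => w (pullback.fst f g z)) z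

lemma EtGood.baseChange {X' Y' : Scheme.{u}} {f : X ⟶ Y} [LocallyQuasiFinite f] {f' : X' ⟶ Y'} {h : X' ⟶ X}
    {b : Y' ⟶ Y} (hc : IsPullback h f' f b) {w : X → ℤ} {x' : X'} (hx : EtGood f w (h x')) :
    EtGood f' (fun x => w (h x)) x' := by
  obtain ⟨V, g, z, hg, hz, H⟩ := hx
  have hV : IsPullback (pullback.snd b g) (pullback.fst b g) g b := (IsPullback.of_hasPullback b g).flip
  have hX : IsPullback (pullback.fst f' (pullback.fst b g)) (pullback.snd f' (pullback.fst b g)) f'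
    (pullback.fst b g) := IsPullback.of_hasPullback _ _
  have hP : IsPullback (pullback.fst f g) (pullback.snd f g) f g := IsPullback.of_hasPullback _ _
  have hbig := hX.paste_horiz hc
  rw [← hV.w] at hbig
  let m : pullback f' (pullback.fst b g) ⟶ pullback f g :=
    hP.lift (pullback.fst f' (pullback.fst b g) ≫ h) (pullback.snd f' (pullback.fst b g) ≫ pullback.snd b g)
      (by rw [hbig.w, Category.assoc])
  have hm1 : m ≫ pullback.fst f g = pullback.fst f' (pullback.fst b g) ≫ h := hP.lift_fst _ _ _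
  have hm2 : m ≫ pullback.snd f g = pullback.snd f' (pullback.fst b g) ≫ pullback.snd b g := hP.lift_snd _ _ _
  have hm : IsPullback m (pullback.snd f' (pullback.fst b g)) (pullback.snd f g) (pullback.snd b g) := by
    refine IsPullback.of_right (h₁₂ := pullback.fst f g) (v₁₃ := f) (h₂₂ := g) ?_ hm2 hP
    rw [hm1]
    exact hbig
  have hm' : IsPullback m (pullback.fst f' (pullback.fst b g)) (pullback.fst f g) h := by
    refine IsPullback.of_bot (v₂₁ := f') (v₂₂ := f) (h₃₁ := b) ?_ hm1 hc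
    have h1 : IsPullback m (pullback.snd f' (pullback.fst b g) ≫ pullback.fst b g) (pullback.snd f g ≫ g) b :=
      hm.paste_vert hV
    rwa [← hX.w, ← hP.w] at h1
  obtain ⟨z', hz1, hz2⟩ := Scheme.exists_preimage_of_isPullback hm' z x' hz
  refine ⟨_, pullback.fst b g, z', inferInstance, hz2, ?_⟩
  have := Good.baseChange hm (x' := z') (by rw [hz1]; exact H)
  convert this using 2 with y
  show w (h (pullback.fst f' (pullback.fst b g) y)) = w (pullback.fst f g (m y))
  rw [← Scheme.Hom.comp_apply, ← Scheme.Hom.comp_apply, hm1]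

/-- At a split point, étale-local goodness holds at all points of a fibre. -/
lemma EtGood.goodOver {f : X ⟶ Y} [LocallyQuasiFinite f] {w : X → ℤ} {x : X} (h : EtGood f w x)
    (hs : Split f x) : ∃ (V : Scheme.{u}) (g : V ⟶ Y) (v : V), Etale g ∧ g v = f x ∧ GoodOver f w {x} g v := by
  obtain ⟨V, g, z, hg, rfl, H⟩ := h
  have hP : IsPullback (pullback.fst f g) (pullback.snd f g) f g := IsPullback.of_hasPullback _ _
  have e : g (pullback.snd f g z) = f (pullback.fst f g z) := by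
    rw [← Scheme.Hom.comp_apply, ← hP.w, Scheme.Hom.comp_apply]
  refine ⟨V, g, pullback.snd f g z, hg, e, ?_⟩
  intro z' hz1 hz2
  obtain ⟨U, hU, -, hu⟩ := hs
  have h1 := Uniq.baseChange hP (y' := pullback.snd f g z) (U := U) (by rwa [e])
  have : z' = z := h1.eq (by
    show pullback.fst f g z' ∈ U
    rw [Set.mem_singleton_iff.1 hz1]
    exact hU) hU hz2 rfl
  rwa [this]

/-- Étale localization at a point. -/
theorem EtGood.exists_goodOver {f : X ⟶ Y} [LocallyOfFiniteType f] [LocallyQuasiFinite f] {w : X → ℤ} {x : X}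
    (h : EtGood f w x) :
    ∃ (V : Scheme.{u}) (g : V ⟶ Y) (v : V), Etale g ∧ g v = f x ∧ GoodOver f w {x} g v := by
  obtain ⟨V₁, g₁, v₁, hg₁, hv₁, H₁⟩ := exists_splitOver_singleton f x
  obtain ⟨V, g, v, hg, hv, H⟩ := exists_goodOver_of_finite (pullback.snd f g₁)
    (fun z => w (pullback.fst f g₁ z)) v₁ _ (finite_points f x g₁ v₁) (by
      rintro z ⟨hz1, hz2⟩
      have h1 : EtGood (pullback.snd f g₁) (fun z => w (pullback.fst f g₁ z)) z :=
        EtGood.baseChange (IsPullback.of_hasPullback f g₁) (by rwa [hz1])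
      obtain ⟨V, g, v, hg, hv, H⟩ := h1.goodOver (H₁ z hz1 hz2)
      exact ⟨V, g, v, hg, hv.trans hz2, H⟩)
  refine ⟨V, g ≫ g₁, v, inferInstance, by rw [Scheme.Hom.comp_apply, hv, hv₁], ?_⟩
  intro z hz1 hz2
  let m : pullback f (g ≫ g₁) ⟶ pullback f g₁ :=
    pullback.lift (pullback.fst _ _) (pullback.snd _ _ ≫ g) (by rw [pullback.condition, Category.assoc])
  have hm1 : m ≫ pullback.fst f g₁ = pullback.fst _ _ := pullback.lift_fst _ _ _
  have hm : IsPullback m (pullback.snd f (g ≫ g₁)) (pullback.snd f g₁) (𝟙 V ≫ g) := by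
    rw [Category.id_comp]
    refine IsPullback.of_right (h₁₂ := pullback.fst f g₁) (v₁₃ := f) (h₂₂ := g₁) ?_
      (pullback.lift_snd _ _ _) (IsPullback.of_hasPullback _ _)
    rw [hm1]
    exact IsPullback.of_hasPullback _ _
  have := H.good hm z ⟨?_, ?_⟩ (by simpa using hz2)
  · convert this using 2
    rw [← Scheme.Hom.comp_apply, hm1]
  · rw [← Scheme.Hom.comp_apply, hm1]
    exact hz1
  · rw [← Scheme.Hom.comp_apply, pullback.lift_snd, Scheme.Hom.comp_apply, hz2, hv]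

/-- The criterion. -/
theorem isWeighting_of_good (f : X ⟶ Y) [LocallyOfFiniteType f] [LocallyQuasiFinite f] (w : X → ℤ)
    (H : ∀ x, EtGood f w x) : MoreMor.IsWeighting f w := by
  intro V g _ U hU
  rw [IsLocallyConstant.iff_eventually_eq]
  intro v
  let f₁ := pullback.snd f g
  let w₁ : ↥(pullback f g) → ℤ := fun z => w (pullback.fst f g z)
  have hA : {z : ↥(pullback f g) | z ∈ U ∧ f₁ z = v}.Finite := by
    have h1 : ((U.ι ≫ f₁) ⁻¹' {v}).Finite := (U.ι ≫ f₁).finite_preimage_singleton _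
    refine (h1.image fun z => U.ι z).subset ?_
    rintro z ⟨hz, hzv⟩
    exact ⟨⟨z, hz⟩, hzv, rfl⟩
  obtain ⟨T, b, t, hb, hbt, G⟩ := exists_goodOver_of_finite f₁ w₁ v _ hA (by
    rintro z ⟨hz, hzv⟩
    have h1 : EtGood f₁ w₁ z := EtGood.baseChange (IsPullback.of_hasPullback f g) (H _)
    obtain ⟨V, g, v, hg, hv, H⟩ := h1.exists_goodOver
    exact ⟨V, g, v, hg, hv.trans hzv, H⟩)
  let h := pullback.fst f₁ b
  let f₂ := pullback.snd f₁ b
  have hc : IsPullback h f₂ f₁ b := IsPullback.of_hasPullback _ _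
  have hUf : IsFinite ((h ⁻¹ᵁ U).ι ≫ f₂) := isFinite_baseChange_ι hc U
  let ι : Type u := {z : ↥(pullback f₁ b) // z ∈ h ⁻¹ᵁ U ∧ f₂ z = t}
  have hfin : Finite ι := by
    have h1 : (((h ⁻¹ᵁ U).ι ≫ f₂) ⁻¹' {t}).Finite := ((h ⁻¹ᵁ U).ι ≫ f₂).finite_preimage_singleton _
    refine (h1.image fun z => (h ⁻¹ᵁ U).ι z).subset ?_
    rintro z ⟨hz, hzv⟩
    exact ⟨⟨z, hz⟩, hzv, rfl⟩
  have hG : ∀ i : ι, Good f₂ (fun z => w₁ (h z)) i.1 := by
    rintro ⟨z, hz, hzt⟩
    refine G z ⟨hz, ?_⟩ hzt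
    show f₁ (h z) = v
    rw [← Scheme.Hom.comp_apply, hc.w, Scheme.Hom.comp_apply, hzt, hbt]
  choose W hW1 hW2 hW3 hW4 using hG
  have hft : ∀ i : ι, f₂ i.1 = t := fun i => i.2.2
  have key := eventually_eq_sum f₂ (fun z => w₁ (h z)) (h ⁻¹ᵁ U) W t ?_ ?_
  · have hloc : ∀ᶠ s in 𝓝 t, ∀ i, MoreMor.fibreIntegral ((W i).ι ≫ f₂) (fun u => w₁ (h ((W i).ι u))) s =
        MoreMor.fibreIntegral ((W i).ι ≫ f₂) (fun u => w₁ (h ((W i).ι u))) t := by
      rw [Filter.eventually_all]
      intro i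
      have := hW4 i
      rwa [hft i] at this
    have h1 : ∀ᶠ s in 𝓝 t, MoreMor.fibreIntegral (U.ι ≫ f₁) (fun x => w₁ (U.ι x)) (b s) =
        MoreMor.fibreIntegral (U.ι ≫ f₁) (fun x => w₁ (U.ι x)) v := by
      filter_upwards [key, hloc] with s hs1 hs2
      rw [← fibreIntegral_preimage hc w₁ U s, ← hbt, ← fibreIntegral_preimage hc w₁ U t, hs1, key.self_of_nhds]
      exact finsum_congr fun i => hs2 i
    have h3 : 𝓝 (b t) ≤ Filter.map b (𝓝 t) := b.isOpenMap.nhds_le t
    rw [hbt] at h3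
    exact h3 h1
  · intro x hx
    constructor
    · intro hxU
      exact ⟨⟨x, hxU, hx⟩, hW1 _⟩
    · rintro ⟨i, hi⟩
      have h1 : x = i.1 := (hW3 i).eq hi (hW1 i) (by rw [hx, hft i]) rfl
      rw [h1]
      exact i.2.1
  · intro x i j hx hi hj
    have h1 : x = i.1 := (hW3 i).eq hi (hW1 i) (by rw [hx, hft i]) rfl
    have h2 : x = j.1 := (hW3 j).eq hj (hW1 j) (by rw [hx, hft j]) rfl
    exact Subtype.ext (h1.symm.trans h2)

end K115.WeightCrit
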