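import Groth.Agent.FlatMor.K115.Radic
import Groth.Agent.FlatMor.K115.MdlProp
import Groth.Agent.FlatMor.K115.WeightCrit
import Groth.Agent.FlatMor.K115.FibreConstr
import Groth.Agent.Ega43.LimitDescendOpen

/-!
# Weightings descend along limits

`Chart f`: étale `V ⟶ Y`, `U ⊆ X ×_Y V` open and finite over `V`.  Charts base change and descend to stages of a
cofiltered limit.

* `exists_weighting`: a constructible function on a model which becomes a weighting over the limit is a weighting at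
  a later stage.
-/

set_option autoImplicit false
set_option backward.isDefEq.respectTransparency false
set_option backward.defeqAttrib.useBackward true
set_option linter.unusedSectionVars false
universe u
open CategoryTheory AlgebraicGeometry Limits Topology

namespace K115.WeightDesc

open Groth.Agent Groth.Agent.CalgA.LimFP Groth.Agent.Ega43.LimitDescend K115.Radic K115.MdlProp K115.Open2
  K115.WeightCrit K115.FibreConstr Groth.Agent.Flat2F.FibreIntegral Groth.Agent.Flat2F.GeomPts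

attribute [local instance] Mdl.lfp Mdl.qc Mdl.qs

section squares

variable {X Y V X' Y' V' : Scheme.{u}} {f : X ⟶ Y} {g : V ⟶ Y} {f' : X' ⟶ Y'} {g' : V' ⟶ Y'}
  {a : X' ⟶ X} {b : Y' ⟶ Y} {r : V' ⟶ V}

/-- Comparison of fibre products. -/
noncomputable abbrev cmp (hX : IsPullback a f' f b) (hV : IsPullback r g' g b) : pullback f' g' ⟶ pullback f g :=
  pullback.map f' g' f g a r b hX.w.symm hV.w.symm

lemma isPullback_cmp_snd (hX : IsPullback a f' f b) (hV : IsPullback r g' g b) :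
    IsPullback (cmp hX hV) (pullback.snd f' g') (pullback.snd f g) r := by
  refine IsPullback.of_right (h₁₂ := pullback.fst f g) (h₂₂ := g) (v₁₃ := f) ?_ (by simp)
    (IsPullback.of_hasPullback f g)
  have h1 := (IsPullback.of_hasPullback f' g').paste_horiz hX
  rw [← hV.w] at h1
  simpa using h1

lemma isPullback_cmp_fst (hX : IsPullback a f' f b) (hV : IsPullback r g' g b) :
    IsPullback (cmp hX hV) (pullback.fst f' g') (pullback.fst f g) a := by
  refine IsPullback.of_right (h₁₂ := pullback.snd f g) (h₂₂ := f) (v₁₃ := g) ?_ (by simp)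
    (IsPullback.of_hasPullback f g).flip
  have h1 := (IsPullback.of_hasPullback f' g').flip.paste_horiz hV
  rw [← hX.w] at h1
  simpa using h1

lemma isPullback_lift_lift (hX : IsPullback a f' f b) (hV : IsPullback r g' g b) {U U' : Scheme.{u}} {s : U' ⟶ U}
    {π : U ⟶ V} {π' : U' ⟶ V'} (hU : IsPullback s π' π r) {q : U ⟶ X} {q' : U' ⟶ X'} (w : q ≫ f = π ≫ g)
    (w' : q' ≫ f' = π' ≫ g') (hq : q' ≫ a = s ≫ q) :
    IsPullback s (pullback.lift q' π' w') (pullback.lift q π w) (cmp hX hV) := by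
  refine IsPullback.of_bot (v₂₁ := pullback.snd f' g') (v₂₂ := pullback.snd f g) (h₃₁ := r) ?_ ?_
    (isPullback_cmp_snd hX hV)
  · rw [pullback.lift_snd, pullback.lift_snd]
    exact hU
  · apply pullback.hom_ext
    · simp [hq]
    · simp [hU.w]

end squares

/-- A chart of `f`. -/
structure Chart {X Y : Scheme.{u}} (f : X ⟶ Y) where
  /-- étale neighbourhood -/
  V : Scheme.{u}
  /-- finite part -/
  U : Scheme.{u}
  /-- the étale morphism -/
  g : V ⟶ Y
  /-- the finite morphism -/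
  π : U ⟶ V
  /-- the morphism to `X` -/
  q : U ⟶ X
  w : q ≫ f = π ≫ g
  etale : Etale g
  finite : IsFinite π
  oi : IsOpenImmersion (pullback.lift q π w)

namespace Chart

variable {X Y : Scheme.{u}} {f : X ⟶ Y}

attribute [local instance] Chart.etale Chart.finite Chart.oi

/-- The set covered by the chart. -/
def E (d : Chart f) : Set X := ⇑d.q '' (⇑d.π ⁻¹' (NU d.π)ᶜ)

/-- The fibre integral. -/
noncomputable def F (d : Chart f) (w : X → ℤ) (v : d.V) : ℤ := MoreMor.fibreIntegral d.π (fun u => w (d.q u)) v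

/-- Base change of a chart. -/
theorem exists_bc (d : Chart f) {X' Y' : Scheme.{u}} {f' : X' ⟶ Y'} {a : X' ⟶ X} {b : Y' ⟶ Y}
    (h : IsPullback a f' f b) (w : X → ℤ) (n : ℤ) (hn : ∀ v, d.F w v = n) :
    ∃ d' : Chart f', d'.E = ⇑a ⁻¹' d.E ∧ ∀ v, d'.F (fun x => w (a x)) v = n := by
  let V' := pullback d.g b
  let U' := pullback d.π (pullback.fst d.g b)
  let g' : V' ⟶ Y' := pullback.snd d.g b
  let π' : U' ⟶ V' := pullback.snd d.π (pullback.fst d.g b)
  let s : U' ⟶ d.U := pullback.fst d.π (pullback.fst d.g b)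
  have hV : IsPullback (pullback.fst d.g b) g' d.g b := IsPullback.of_hasPullback _ _
  have hU : IsPullback s π' d.π (pullback.fst d.g b) := IsPullback.of_hasPullback _ _
  have hUY : IsPullback s (π' ≫ g') (d.π ≫ d.g) b := hU.paste_vert hV
  rw [← d.w] at hUY
  let q' : U' ⟶ X' := h.lift (s ≫ d.q) (π' ≫ g') (by rw [Category.assoc, hUY.w])
  have hq1 : q' ≫ a = s ≫ d.q := h.lift_fst _ _ _
  have hq2 : q' ≫ f' = π' ≫ g' := h.lift_snd _ _ _
  have hq : IsPullback s q' d.q a := by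
    refine IsPullback.of_bot (v₂₁ := f') (v₂₂ := f) (h₃₁ := b) ?_ hq1.symm h
    rw [hq2]
    exact hUY
  refine ⟨⟨V', U', g', π', q', hq2, MorphismProperty.pullback_snd _ _ d.etale,
    MorphismProperty.pullback_snd _ _ d.finite,
    MorphismProperty.of_isPullback (isPullback_lift_lift h hV hU d.w hq2 hq1) d.oi⟩, ?_, ?_⟩
  · show ⇑q' '' (⇑π' ⁻¹' (NU π')ᶜ) = _
    rw [E, ← image_preimage_of_isPullback hq, NU_of_isPullback hU]
    congr 1
    rw [← Set.preimage_compl, ← Set.preimage_comp, ← Set.preimage_comp]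
    ext u
    simp only [Set.mem_preimage, Function.comp_apply, Set.mem_compl_iff]
    rw [← Scheme.Hom.comp_apply, ← Scheme.Hom.comp_apply, hU.w]
  · intro v
    show MoreMor.fibreIntegral π' (fun u => w (a (q' u))) v = n
    rw [← hn (pullback.fst d.g b v), F,
      ← fibreIntegral_baseChange d.π π' s (pullback.fst d.g b) hU (fun u => w (d.q u)) v]
    congr 1
    ext u
    show w (a (q' u)) = w (d.q (s u))
    rw [← Scheme.Hom.comp_apply, ← Scheme.Hom.comp_apply, hq1]

/-- Off `NU π` there is one geometric point. -/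
lemma eq_of_notMem_NU' {U V : Scheme.{u}} {π : U ⟶ V} [LocallyOfFiniteType π] {v : V} (hv : v ∉ NU π) {K : Type u} [Field K]
    [IsAlgClosed K] {s t : Spec (.of K) ⟶ U} {ω : Spec (.of K) ⟶ V} (hs : s ≫ π = ω) (ht : t ≫ π = ω)
    (hω : ω (pt K) = v) : s = t := by
  have h1 : pullback.lift s t (hs.trans ht.symm) (pt K) ∈ Set.range ⇑(pullback.diagonal π) := by
    by_contra hne
    refine hv ⟨_, hne, ?_⟩
    rw [← Scheme.Hom.comp_apply, pullback.lift_fst_assoc, hs, hω]
  obtain ⟨z, hz⟩ := h1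
  obtain ⟨s', hs', -⟩ := exists_lift (pullback.diagonal π) (pullback.lift s t (hs.trans ht.symm)) z hz
  have e1 : s = s' := by
    rw [← pullback.lift_fst s t (hs.trans ht.symm), ← hs', Category.assoc, pullback.diagonal_fst, Category.comp_id]
  have e2 : t = s' := by
    rw [← pullback.lift_snd s t (hs.trans ht.symm), ← hs', Category.assoc, pullback.diagonal_snd, Category.comp_id]
  rw [e1, e2]

/-- Charts with constant fibre integral give goodness. -/
theorem etGood (d : Chart f) [LocallyQuasiFinite f] (w : X → ℤ) (n : ℤ) (hn : ∀ v, d.F w v = n) {x : X}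
    (hx : x ∈ d.E) : EtGood f w x := by
  obtain ⟨u, hu, rfl⟩ := hx
  let l : d.U ⟶ pullback f d.g := pullback.lift d.q d.π d.w
  have hl1 : l ≫ pullback.fst f d.g = d.q := pullback.lift_fst _ _ _
  have hl2 : l ≫ pullback.snd f d.g = d.π := pullback.lift_snd _ _ _
  have hr : l.isoOpensRange.inv ≫ l = l.opensRange.ι := l.isoOpensRange_inv_comp
  have hr2 : l.opensRange.ι ≫ pullback.snd f d.g = l.isoOpensRange.inv ≫ d.π := by
    rw [← hr, Category.assoc, hl2]
  refine ⟨d.V, d.g, l u, d.etale, ?_, l.opensRange, ⟨u, rfl⟩, ?_, ?_, ?_⟩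
  · rw [← Scheme.Hom.comp_apply, hl1]
  · rw [hr2]
    infer_instance
  · intro K _ _ ω hω
    rw [← Scheme.Hom.comp_apply, hl2] at hω
    obtain ⟨s, hs, hsu⟩ := exists_lift d.π ω u hω.symm
    refine ⟨s ≫ l, ⟨?_, ?_⟩, ?_⟩
    · rw [Category.assoc, hl2, hs]
    · rw [Scheme.Hom.comp_apply]
      exact ⟨_, rfl⟩
    · rintro t ⟨ht, ⟨u', hu'⟩⟩
      have ht2 : IsOpenImmersion.lift l t (by
        rw [range_eq_pt, Set.singleton_subset_iff]; exact ⟨u', hu'⟩) ≫ l = t := IsOpenImmersion.lift_fac _ _ _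
      rw [← ht2]
      congr 1
      refine eq_of_notMem_NU' hu (ω := ω) ?_ hs hω
      rw [← hl2, ← Category.assoc, ht2, ht]
  · have key : ∀ v, MoreMor.fibreIntegral (l.opensRange.ι ≫ pullback.snd f d.g)
        (fun z => w (pullback.fst f d.g (l.opensRange.ι z))) v = n := by
      intro v
      have hc : IsPullback l.isoOpensRange.hom d.π (l.opensRange.ι ≫ pullback.snd f d.g) (𝟙 d.V) :=
        IsPullback.of_horiz_isIso ⟨by rw [hr2, Iso.hom_inv_id_assoc, Category.comp_id]⟩
      rw [← hn v, F]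
      have h2 := fibreIntegral_baseChange (l.opensRange.ι ≫ pullback.snd f d.g) d.π l.isoOpensRange.hom (𝟙 d.V) hc
        (fun z => w (pullback.fst f d.g (l.opensRange.ι z))) v
      rw [show (𝟙 d.V : d.V ⟶ d.V) v = v from rfl] at h2
      rw [← h2]
      congr 1
      ext z
      show w (pullback.fst f d.g (l.opensRange.ι (l.isoOpensRange.hom z))) = w (d.q z)
      rw [← Scheme.Hom.comp_apply, ← Scheme.Hom.comp_apply, ← hr, Category.assoc, Iso.hom_inv_id_assoc, hl1]
    exact Filter.Eventually.of_forall fun v => (key v).trans (key _).symm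

end Chart

section desc

variable {I : Type u} [SmallCategory I] [IsCofiltered I] {D : I ⥤ Scheme.{u}} {c : Cone D}
  [∀ (i j : I) (f : i ⟶ j), IsAffineHom (D.map f)]
  [∀ i, CompactSpace (D.obj i)] [∀ i, QuasiSeparatedSpace (D.obj i)]
  {A' B' C' : Scheme.{u}} {f' : A' ⟶ c.pt} {g' : B' ⟶ c.pt} {h' : C' ⟶ c.pt}

/-- The product of two models. -/
noncomputable def prodMdl {i : I} (M : Mdl f' i) (N : Mdl g' i) : Mdl (pullback.fst f' g' ≫ f') i where
  A := pullback M.f N.f
  f := pullback.fst _ _ ≫ M.f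
  p := cmp M.h N.h
  h := (isPullback_cmp_fst M.h N.h).paste_vert M.h
  lfp := inferInstance
  qc := inferInstance
  qs := inferInstance

/-- The morphism to the product. -/
noncomputable def pairHom {i : I} {M : Mdl f' i} {N : Mdl g' i} {P : Mdl h' i} {q : C' ⟶ A'} {π : C' ⟶ B'}
    (v : Mdl.Hom q P M) (u : Mdl.Hom π P N) (w : q ≫ f' = π ≫ g') :
    Mdl.Hom (pullback.lift q π w) P (prodMdl M N) where
  φ := pullback.lift v.φ u.φ (by rw [v.w, u.w])
  w := by
    show pullback.lift v.φ u.φ _ ≫ pullback.fst _ _ ≫ M.f = _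
    rw [pullback.lift_fst_assoc, v.w]
  wp := by
    apply pullback.hom_ext
    · simp [prodMdl, v.wp]
    · simp [prodMdl, u.wp]
  w' := by rw [pullback.lift_fst_assoc, v.w']

/-- Open immersions into products spread out. -/
theorem exists_isOpenImmersion (hc : IsLimit c) {i : I} {M : Mdl f' i} {N : Mdl g' i} {P : Mdl h' i} {q : C' ⟶ A'}
    {π : C' ⟶ B'} (v : Mdl.Hom q P M) (u : Mdl.Hom π P N) (w : q ≫ f' = π ≫ g')
    [hoi : IsOpenImmersion (pullback.lift q π w)] :
    ∃ (j : I) (a : j ⟶ i), IsOpenImmersion (pullback.lift (v.bc a).φ (u.bc a).φ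
      ((v.bc a).w.trans (u.bc a).w.symm)) := by
  obtain ⟨j, a, hj⟩ := Hom.exists_prop Ega43.LimitDescendOpen.descendsLim_isOpenImmersion hc (pairHom v u w) hoi
  refine ⟨j, a, ?_⟩
  have hM : IsPullback (pullback.fst M.f (D.map a)) (M.bc a).f M.f (D.map a) := IsPullback.of_hasPullback _ _
  have hN : IsPullback (pullback.fst N.f (D.map a)) (N.bc a).f N.f (D.map a) := IsPullback.of_hasPullback _ _
  have h1 : IsPullback (pullback.fst (prodMdl M N).f (D.map a)) ((prodMdl M N).bc a).f (prodMdl M N).f (D.map a) :=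
    IsPullback.of_hasPullback _ _
  have h2 : IsPullback (cmp hM hN) (pullback.fst _ _ ≫ (M.bc a).f) (prodMdl M N).f (D.map a) :=
    (isPullback_cmp_fst hM hN).paste_vert hM
  have h3 : IsPullback (pullback.fst P.f (D.map a)) (pullback.lift (v.bc a).φ (u.bc a).φ
      ((v.bc a).w.trans (u.bc a).w.symm)) (pullback.lift v.φ u.φ (v.w.trans u.w.symm)) (cmp hM hN) :=
    isPullback_lift_lift hM hN (u.isPullback_bc a) _ _ (by simp)
  exact Ega43.LimitDescendIso.prop_of_isPullback_of_isPullback ((pairHom v u w).isPullback_bc a) h3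
    (h1.isoIsPullback _ _ h2) (h1.isoIsPullback_hom_fst _ _ h2) hj

lemma isOpenImmersion_bc {i : I} {M : Mdl f' i} {N : Mdl g' i} {P : Mdl h' i} {q : C' ⟶ A'}
    {π : C' ⟶ B'} (v : Mdl.Hom q P M) (u : Mdl.Hom π P N)
    [hoi : IsOpenImmersion (pullback.lift v.φ u.φ (v.w.trans u.w.symm))] {j : I} (a : j ⟶ i) :
    IsOpenImmersion (pullback.lift (v.bc a).φ (u.bc a).φ ((v.bc a).w.trans (u.bc a).w.symm)) := by
  have hM : IsPullback (pullback.fst M.f (D.map a)) (M.bc a).f M.f (D.map a) := IsPullback.of_hasPullback _ _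
  have hN : IsPullback (pullback.fst N.f (D.map a)) (N.bc a).f N.f (D.map a) := IsPullback.of_hasPullback _ _
  exact MorphismProperty.of_isPullback (isPullback_lift_lift hM hN (u.isPullback_bc a) (v.w.trans u.w.symm)
    ((v.bc a).w.trans (u.bc a).w.symm) (by simp)) hoi

/-- Assembling a chart from models. -/
theorem Chart.exists_of_hom (hc : IsLimit c) {i : I} {M : Mdl f' i} (w : M.A → ℤ) (hw : IsCF w) (d : Chart f')
    (n : ℤ) (hn : ∀ v, d.F (fun x => w (M.p x)) v = n) {MV : Mdl d.g i}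
    {MU : Mdl (d.π ≫ d.g) i} (u : Mdl.Hom d.π MU MV) (v : Mdl.Hom d.q MU M) (h1 : Etale MV.f) (h2 : IsFinite u.φ)
    (h3 : IsOpenImmersion (pullback.lift v.φ u.φ (v.w.trans u.w.symm))) :
    ∃ (j : I) (a : j ⟶ i) (d' : Chart (M.bc a).f), IsConstructible d'.E ∧ ⇑(M.bc a).p ⁻¹' d'.E = d.E ∧
      ∀ v, d'.F (fun x => w (pullback.fst M.f (D.map a) x)) v = n := by
  have hl := lfp_hom u
  have := lfp_hom v
  have := qc_hom v
  have := compactSpace_A M
  have := compactSpace_A MV
  have := quasiSeparatedSpace_A M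
  have := quasiSeparatedSpace_A MV
  -- the fibre integral at the stage
  let G : MV.A → ℤ := MoreMor.fibreIntegral u.φ (fun x => w (v.φ x))
  have hG : IsCF G := IsCF.fibreIntegral u.φ (hw.comp v.φ)
  have hGn : ⇑MV.p ⁻¹' {x | G x = n} = Set.univ := by
    refine Set.eq_univ_of_forall fun x => ?_
    show G (MV.p x) = n
    rw [← hn x]
    refine (fibreIntegral_baseChange u.φ d.π MU.p MV.p u.isPullback (fun x => w (v.φ x)) x).symm.trans ?_
    rw [Chart.F]
    congr 1
    ext y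
    show w (v.φ (MU.p y)) = w (M.p (d.q y))
    rw [← Scheme.Hom.comp_apply, ← Scheme.Hom.comp_apply, v.wp]
  obtain ⟨j, a, hj⟩ := exists_preimage_eq_univ hc MV (hG n) hGn
  have f1 : IsFinite (u.bc a).φ := MorphismProperty.of_isPullback (u.isPullback_bc a) h2
  have e1 : Etale (MV.bc a).f := MorphismProperty.pullback_snd _ _ h1
  have o1 := isOpenImmersion_bc v u a
  have hl := lfp_hom (u.bc a)
  have := lfp_hom (v.bc a)
  have := qc_hom (v.bc a)
  have := compactSpace_A (M.bc a)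
  have := compactSpace_A (MV.bc a)
  have := quasiSeparatedSpace_A (M.bc a)
  have := quasiSeparatedSpace_A (MV.bc a)
  let d' : Chart (M.bc a).f := ⟨(MV.bc a).A, (MU.bc a).A, (MV.bc a).f, (u.bc a).φ, (v.bc a).φ,
    (v.bc a).w.trans (u.bc a).w.symm, e1, f1, o1⟩
  refine ⟨j, a, d', ?_, ?_, ?_⟩
  · have : CompactSpace ↥(pullback (u.bc a).φ (u.bc a).φ) :=
      QuasiCompact.compactSpace_of_compactSpace (pullback.fst (u.bc a).φ (u.bc a).φ ≫ (u.bc a).φ)
    have : QuasiSeparatedSpace ↥(pullback (u.bc a).φ (u.bc a).φ) :=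
      quasiSeparatedSpace_of_quasiSeparated (pullback.fst (u.bc a).φ (u.bc a).φ ≫ (u.bc a).φ)
    have h2 : IsConstructible (NU (u.bc a).φ) :=
      (pullback.fst (u.bc a).φ (u.bc a).φ ≫ (u.bc a).φ).isConstructible_image
        (isConstructible_range_diagonal (u.bc a).φ).compl
    exact (v.bc a).φ.isConstructible_image ((u.bc a).φ.isConstructible_preimage h2.compl)
  · show ⇑(M.bc a).p ⁻¹' (⇑(v.bc a).φ '' (⇑(u.bc a).φ ⁻¹' (NU (u.bc a).φ)ᶜ)) = ⇑d.q '' (⇑d.π ⁻¹' (NU d.π)ᶜ)
    rw [← image_preimage_of_isPullback (v.bc a).isPullback, NU_of_isPullback (u.bc a).isPullback]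
    congr 1
    rw [← Set.preimage_compl, ← Set.preimage_comp, ← Set.preimage_comp]
    ext x
    simp only [Set.mem_preimage, Function.comp_apply, Set.mem_compl_iff]
    rw [← Scheme.Hom.comp_apply, ← Scheme.Hom.comp_apply, (u.bc a).wp]
  · intro x
    show MoreMor.fibreIntegral (u.bc a).φ (fun y => w (pullback.fst M.f (D.map a) ((v.bc a).φ y))) x = n
    have h5 : G (pullback.fst MV.f (D.map a) x) = n := Set.eq_univ_iff_forall.1 hj x
    rw [← h5]
    refine Eq.trans ?_ (fibreIntegral_baseChange u.φ (u.bc a).φ (pullback.fst MU.f (D.map a))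
      (pullback.fst MV.f (D.map a)) (u.isPullback_bc a) (fun x => w (v.φ x)) x)
    congr 1
    ext y
    have e : (v.bc a).φ ≫ (pullback.fst M.f (D.map a) : (M.bc a).A ⟶ M.A) = pullback.fst MU.f (D.map a) ≫ v.φ := by
      simp
    have e2 := congr($(e) y)
    rw [Scheme.Hom.comp_apply, Scheme.Hom.comp_apply] at e2
    exact congrArg w e2

/-- A chart in the limit comes from a chart at a stage. -/
theorem Chart.exists_descend (hc : IsLimit c) {i : I} (M : Mdl f' i) (w : M.A → ℤ) (hw : IsCF w)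
    (d : Chart f') [IsAffine d.V] [hlp : LocallyOfFinitePresentation d.π]
    (n : ℤ) (hn : ∀ v, d.F (fun x => w (M.p x)) v = n) :
    ∃ (j : I) (a : j ⟶ i) (d' : Chart (M.bc a).f), IsConstructible d'.E ∧ ⇑(M.bc a).p ⁻¹' d'.E = d.E ∧
      ∀ v, d'.F (fun x => w (pullback.fst M.f (D.map a) x)) v = n := by
  have := d.etale
  have := d.finite
  have hcpt : CompactSpace c.pt := Scheme.compactSpace_of_isLimit D c hc
  have hqs : QuasiSeparatedSpace c.pt := by
    have := isAffineHom_π_app _ _ hc (i := i)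
    exact quasiSeparatedSpace_of_quasiSeparated (c.π.app i)
  have : QuasiCompact d.g := quasiCompact_of_compactSpace d.g
  have : QuasiSeparated d.g := inferInstance
  obtain ⟨j1, ⟨MV⟩⟩ := Mdl.exists_model hc d.g
  obtain ⟨j2, ⟨MU⟩⟩ := Mdl.exists_model hc (d.π ≫ d.g)
  obtain ⟨j, a1, a2, a, -⟩ : ∃ (j : I) (_ : j ⟶ j1) (_ : j ⟶ j2) (_ : j ⟶ i), True := by
    obtain ⟨j3, b1, b2, -⟩ := IsCofilteredOrEmpty.cone_objs j1 j2
    obtain ⟨j, b3, b4, -⟩ := IsCofilteredOrEmpty.cone_objs j3 i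
    exact ⟨j, b3 ≫ b1, b3 ≫ b2, b4, trivial⟩
  obtain ⟨k1, e1, ⟨u1⟩⟩ := (MU.bc a2).exists_hom hc (MV.bc a1) d.π rfl
  obtain ⟨k2, e2, ⟨v2⟩⟩ := ((MU.bc a2).bc e1).exists_hom hc ((M.bc a).bc e1) d.q d.w
  obtain ⟨k3, e3, h3⟩ := Hom.exists_prop K286.Desc.descendsLim_isFinite hc (u1.bc e2) d.finite
  have := d.oi
  obtain ⟨k4, e4, h4⟩ := exists_isOpenImmersion hc (v2.bc e3) ((u1.bc e2).bc e3) d.w
  obtain ⟨k5, e5, h5⟩ := Mdl.exists_prop K973.EtaleDesc.descendsLim_etale hc
    ((((MV.bc a1).bc e1).bc e2).bc e3 |>.bc e4) d.etale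
  let M' := (((((M.bc a).bc e1).bc e2).bc e3).bc e4).bc e5
  have hbc : IsBC M _ M' :=
    (((((isBC_bc M a).comp (isBC_bc (M.bc a) e1)).comp (isBC_bc _ e2)).comp (isBC_bc _ e3)).comp
    (isBC_bc _ e4)).comp (isBC_bc _ e5)
  obtain ⟨r, hr, hrp⟩ := hbc
  have hwn : ∀ v, d.F (fun x => w (r (M'.p x))) v = n := by
    intro v
    rw [← hn v]
    congr 1
    ext x
    show w (r (M'.p x)) = w (M.p x)
    rw [← Scheme.Hom.comp_apply, hrp]
  obtain ⟨l, b, d', hd1, hd2, hd3⟩ := Chart.exists_of_hom (M := M') hc (fun x => w (r x)) (hw.comp r) d n hwn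
    ((((u1.bc e2).bc e3).bc e4).bc e5) ((((v2.bc e3).bc e4).bc e5)) h5
    (MorphismProperty.of_isPullback ((((u1.bc e2).bc e3).bc e4).isPullback_bc e5)
      (MorphismProperty.of_isPullback (((u1.bc e2).bc e3).isPullback_bc e4) h3))
    (isOpenImmersion_bc _ _ e5)
  let t : k5 ⟶ i := e5 ≫ e4 ≫ e3 ≫ e2 ≫ e1 ≫ a
  have hr' : IsPullback (pullback.fst M'.f (D.map b) ≫ r) (M'.bc b).f M.f (D.map (b ≫ t)) := by
    rw [D.map_comp]
    exact (IsPullback.of_hasPullback M'.f (D.map b)).paste_horiz hr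
  have hrp' : (M'.bc b).p ≫ pullback.fst M'.f (D.map b) ≫ r = M.p := by
    rw [← hrp]
    simp
  -- compare with `M.bc`
  have hM : IsPullback (pullback.fst M.f (D.map (b ≫ t))) (M.bc (b ≫ t)).f M.f (D.map (b ≫ t)) :=
    IsPullback.of_hasPullback _ _
  let v : (M.bc (b ≫ t)).A ⟶ (M'.bc b).A := hr'.lift (pullback.fst M.f (D.map (b ≫ t))) (M.bc (b ≫ t)).f hM.w
  have hv1 : v ≫ pullback.fst M'.f (D.map b) ≫ r = pullback.fst M.f (D.map (b ≫ t)) := hr'.lift_fst _ _ _
  have hv2 : v ≫ (M'.bc b).f = (M.bc (b ≫ t)).f := hr'.lift_snd _ _ _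
  have hv : IsPullback v (M.bc (b ≫ t)).f (M'.bc b).f (𝟙 _) := by
    refine IsPullback.of_right (h₁₂ := pullback.fst M'.f (D.map b) ≫ r) (h₂₂ := D.map (b ≫ t)) (v₁₃ := M.f)
      ?_ (by simpa using hv2) hr'
    rw [hv1, Category.id_comp]
    exact hM
  have hvp : (M.bc (b ≫ t)).p ≫ v = (M'.bc b).p := by
    apply hr'.hom_ext
    · rw [Category.assoc, hv1, hrp']
      simp
    · rw [Category.assoc, hv2, (M'.bc b).h.w, (M.bc (b ≫ t)).h.w]
  obtain ⟨d'', hd1', hd2'⟩ := d'.exists_bc hv _ n hd3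
  refine ⟨l, b ≫ t, d'', ?_, ?_, ?_⟩
  · rw [hd1']
    exact v.isConstructible_preimage hd1
  · rw [hd1', ← hd2, ← hvp]
    rfl
  · intro y
    rw [← hd2' y]
    congr 1
    ext x
    have e2 := congr($(hv1) x)
    rw [Scheme.Hom.comp_apply, Scheme.Hom.comp_apply] at e2
    exact congrArg w e2.symm

/-- A weighting in the limit which comes from a constructible function on a model is a weighting at a stage. -/
theorem exists_weighting (hc : IsLimit c) {i : I} (M : Mdl f' i) (w : M.A → ℤ) (hw : IsCF w)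
    [LocallyQuasiFinite M.f] (hW : MoreMor.IsWeighting f' (fun x => w (M.p x))) :
    ∃ (j : I) (a : j ⟶ i), MoreMor.IsWeighting (M.bc a).f (fun x => w (pullback.fst M.f (D.map a) x)) := by
  have hcpt : CompactSpace c.pt := Scheme.compactSpace_of_isLimit D c hc
  have hqs : QuasiSeparatedSpace c.pt := by
    have := isAffineHom_π_app _ _ hc (i := i)
    exact quasiSeparatedSpace_of_quasiSeparated (c.π.app i)
  have hf1 : LocallyOfFinitePresentation f' := MorphismProperty.of_isPullback M.h M.lfp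
  have hf2 : QuasiCompact f' := MorphismProperty.of_isPullback M.h M.qc
  have hf3 : QuasiSeparated f' := MorphismProperty.of_isPullback M.h M.qs
  have hf4 : LocallyQuasiFinite f' := MorphismProperty.of_isPullback M.h ‹_›
  have : CompactSpace A' := QuasiCompact.compactSpace_of_compactSpace f'
  have : QuasiSeparatedSpace A' := quasiSeparatedSpace_of_quasiSeparated f'
  have key : ∀ x : A', ∃ (j : I) (a : j ⟶ i) (n : ℤ) (d' : Chart (M.bc a).f), IsConstructible d'.E ∧
      x ∈ ⇑(M.bc a).p ⁻¹' d'.E ∧ ∀ v, d'.F (fun x => w (pullback.fst M.f (D.map a) x)) v = n := by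
    intro x
    obtain ⟨V, hV, g, v, z, U, hg, hv, hz1, hz2, hzU, hf, hu, hN⟩ :=
      Old.H20.WeightLevel.exists_local_affine f' _ hW x
    have hoi : IsOpenImmersion (pullback.lift (U.ι ≫ pullback.fst f' g) (U.ι ≫ pullback.snd f' g)
        (by rw [Category.assoc, Category.assoc, pullback.condition])) := by
      have : pullback.lift (U.ι ≫ pullback.fst f' g) (U.ι ≫ pullback.snd f' g)
        (by rw [Category.assoc, Category.assoc, pullback.condition]) = U.ι := by
        apply pullback.hom_ext <;> simp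
      rw [this]
      infer_instance
    have hlp : LocallyOfFinitePresentation (U.ι ≫ pullback.snd f' g) := inferInstance
    let d : Chart f' := ⟨V, U, g, U.ι ≫ pullback.snd f' g, U.ι ≫ pullback.fst f' g,
      by rw [Category.assoc, Category.assoc, pullback.condition], hg, hf, hoi⟩
    have hdV : IsAffine d.V := hV
    have hdp : LocallyOfFinitePresentation d.π := hlp
    obtain ⟨j, a, d', h1, h2, h3⟩ := Chart.exists_descend hc M w hw d (w (M.p x)) (by
      intro v
      rw [← hN v]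
      rfl)
    refine ⟨j, a, _, d', h1, ?_, h3⟩
    rw [h2]
    refine ⟨⟨z, hzU⟩, ?_, hz1⟩
    intro hmem
    refine notMem_NU_of_uniq hu ?_
    have e : (U.ι ≫ pullback.snd f' g) ⟨z, hzU⟩ = v := hz2
    rw [← e]
    exact hmem
  choose j a n d h1 h2 h3 using key
  obtain ⟨t, ht⟩ := EtpbcA.ConstrTop.finite_subcover (fun x => ⇑(M.bc (a x)).p ⁻¹' (d x).E)
    (fun x => (M.bc (a x)).p.isConstructible_preimage (h1 x))
    (Set.eq_univ_iff_forall.2 fun x => Set.mem_iUnion.2 ⟨x, h2 x⟩)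
  obtain ⟨k, e, g, hg⟩ := IsCofiltered.wideCospan (fun x : t => a x.1)
  choose v hv hvp hvf using fun x : t => exists_isPullback_bc M (a x.1) (g x) e (hg x)
  choose d₂ hd₂ hdn using fun x : t => (d x.1).exists_bc (hv x) _ _ (h3 x.1)
  have hZ : IsConstructible (⋃ x : t, (d₂ x).E) := by
    refine IsConstructible.iUnion fun x => ?_
    rw [hd₂ x]
    exact (v x).isConstructible_preimage (h1 x.1)
  obtain ⟨l, b, hb⟩ := exists_preimage_eq_univ hc (M.bc e) hZ (by
    rw [Set.eq_univ_iff_forall]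
    intro x
    have := ht.symm ▸ Set.mem_univ x
    simp only [Set.mem_iUnion] at this
    obtain ⟨y, hy, hxy⟩ := this
    refine Set.mem_iUnion.2 ⟨⟨y, hy⟩, ?_⟩
    rw [hd₂]
    show v ⟨y, hy⟩ ((M.bc e).p x) ∈ (d y).E
    rw [← Scheme.Hom.comp_apply, hvp]
    exact hxy)
  have hbe : LocallyQuasiFinite (M.bc (b ≫ e)).f := MorphismProperty.pullback_snd _ _ ‹_›
  obtain ⟨v', hv', -, hvf'⟩ := exists_isPullback_bc M e b (b ≫ e) rfl
  refine ⟨l, b ≫ e, isWeighting_of_good _ _ fun x => ?_⟩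
  have hx : v' x ∈ ⋃ x : t, (d₂ x).E := by
    let x' := pullback.lift v' (M.bc (b ≫ e)).f hv'.w x
    have hx := Set.eq_univ_iff_forall.1 hb x'
    have e3 : pullback.fst (M.bc e).f (D.map b) x' = v' x := by
      rw [← Scheme.Hom.comp_apply, pullback.lift_fst]
    rw [← e3]
    exact hx
  obtain ⟨y, hy⟩ := Set.mem_iUnion.1 hx
  obtain ⟨d₃, hd₃, hn₃⟩ := (d₂ y).exists_bc hv' _ _ (hdn y)
  refine d₃.etGood _ (n y) (fun s => ?_) (x := x) (by rw [hd₃]; exact hy)
  rw [← hn₃ s]
  congr 1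
  ext z
  have e2 := congr($(hvf y) (v' z))
  have e3 := congr($(hvf') z)
  rw [Scheme.Hom.comp_apply] at e2 e3
  exact congrArg w (e2.trans e3).symm

end desc

end K115.WeightDesc
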