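import Groth.Agent.FlatMor.K115.WeightDesc
import Groth.Agent.Lim8.K115.Cons

/-!
# A constructible function on the limit comes from a stage

`exists_isCF`: if `M` is a model of `f' : A' ⟶ c.pt` at the stage `i` and `w : A' → ℤ` is constructible then there are
a later stage `a : j ⟶ i` and a constructible function on `(M.bc a).A` which pulls back to `w`.
-/

set_option autoImplicit false
set_option backward.isDefEq.respectTransparency false
set_option backward.defeqAttrib.useBackward true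
universe u
open CategoryTheory AlgebraicGeometry Limits Topology

namespace K115.WeightStage

open Groth.Agent Groth.Agent.CalgA.LimFP K115.MdlProp K115.FibreConstr

variable {I : Type u} [SmallCategory I] [IsCofiltered I] {D : I ⥤ Scheme.{u}} {c : Cone D}
  [∀ (i j : I) (f : i ⟶ j), IsAffineHom (D.map f)]
  [∀ i, CompactSpace (D.obj i)] [∀ i, QuasiSeparatedSpace (D.obj i)]
  {A' : Scheme.{u}} {f' : A' ⟶ c.pt}

omit [IsCofiltered I] [∀ (i j : I) (f : i ⟶ j), IsAffineHom (D.map f)]
  [∀ i, CompactSpace (D.obj i)] [∀ i, QuasiSeparatedSpace (D.obj i)] in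
@[reassoc]
lemma bc_p_fst {i j : I} (M : Mdl f' i) (a : j ⟶ i) :
    (M.bc a).p ≫ (pullback.fst M.f (D.map a) : (M.bc a).A ⟶ M.A) = M.p := by simp

theorem exists_isCF (hc : IsLimit c) {i : I} (M : Mdl f' i) (w : A' → ℤ) (hw : IsCF w) [CompactSpace A']
    [QuasiSeparatedSpace A'] :
    ∃ (j : I) (a : j ⟶ i) (w' : (M.bc a).A → ℤ), IsCF w' ∧ ∀ x, w' ((M.bc a).p x) = w x := by
  classical
  have := M.lfp
  have := M.qc
  have := M.qs
  have h1 : ∀ (j k : Over i) (a : j ⟶ k), IsAffineHom ((bcDiagram D M.f).map a) :=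
    fun _ _ a => isAffineHom_bcDiagram_map a
  have h2 : ∀ j : Over i, CompactSpace ((bcDiagram D M.f).obj j) :=
    fun j => compactSpace_bcDiagram_obj j
  have h3 : ∀ j : Over i, QuasiSeparatedSpace ((bcDiagram D M.f).obj j) :=
    fun j => quasiSeparatedSpace_bcDiagram_obj j
  obtain ⟨t, ht⟩ := hw.finite_range.exists_finset_coe
  have key : ∀ n : t, ∃ (j : Over i) (_ : j ⟶ Over.mk (𝟙 i)) (Z : Set ((bcDiagram D M.f).obj j)),
      IsConstructible Z ∧ (⇑((bcCone M.h).π.app j) ⁻¹' Z : Set A') = {x | w x = n.1} := fun n =>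
    K115.Cons.exists_constructible (bcDiagram D M.f) (bcCone M.h) (isLimitBcCone hc M.h) (Over.mk (𝟙 i)) _ (hw n.1)
  choose j a Z hZ hZw using key
  obtain ⟨k, e, g, hg⟩ := IsCofiltered.wideCospan a
  let w' : (bcDiagram D M.f).obj k → ℤ := fun x =>
    ∑ n : t, n.1 * (if (bcDiagram D M.f).map (g n) x ∈ Z n then 1 else 0)
  have hw' : IsCF w' := by
    refine IsCF.sum _ _ fun n _ => ?_
    exact ((IsCF.indicator (hZ n)).comp ((bcDiagram D M.f).map (g n))).mul_const n.1
  refine ⟨k.left, k.hom, w', hw', fun x => ?_⟩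
  have h5 : ∀ n : t, ((bcDiagram D M.f).map (g n) ((M.bc k.hom).p x) ∈ Z n ↔ w x = n.1) := by
    intro n
    have h6 : (bcCone M.h).π.app k ≫ (bcDiagram D M.f).map (g n) = (bcCone M.h).π.app (j n) :=
      (bcCone M.h).w (g n)
    have h7 := congr($(h6) x)
    rw [Scheme.Hom.comp_apply] at h7
    show (bcDiagram D M.f).map (g n) ((bcCone M.h).π.app k x) ∈ Z n ↔ x ∈ {x | w x = n.1}
    rw [h7, ← hZw n]
    rfl
  show ∑ n : t, n.1 * (if (bcDiagram D M.f).map (g n) ((M.bc k.hom).p x) ∈ Z n then (1 : ℤ) else 0) = w x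
  simp only [h5]
  have hx : w x ∈ t := by
    rw [← Finset.mem_coe, ht]
    exact ⟨x, rfl⟩
  rw [Finset.sum_eq_single ⟨w x, hx⟩]
  · simp
  · intro b _ hb
    have : w x ≠ b.1 := fun h => hb (Subtype.ext h.symm)
    simp [this]
  · exact fun h => (h (Finset.mem_univ _)).elim

end K115.WeightStage
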